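import Cfsg.Agent.BlocksChars.ThreeDegrees.Basic
import Cfsg.Agent.BlocksChars.BoundedDegree.Basic
import Cfsg.Agent.Lib.CharTheory.NormalSylow.Clifford
import Cfsg.Agent.Lib.CharTheory.ExtendChar

/-!
# No divisibility among degrees: generalities

The main tool: an automorphism fixing all characters over an invariant-to-the-element character
of a normal subgroup with abelian quotient moves the coprime elements of the inertia group only
inside the normal subgroup.
-/

set_option autoImplicit false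
set_option linter.style.haveILetI false
set_option linter.unusedSectionVars false

namespace Cfsg.Agent.BlocksChars.NDAD

open Cfsg.Agent.Characters Cfsg.Agent.CharTheory Cfsg.Agent.BlocksChars.Degrees

universe u

variable {X : Type u} [Group X] [Finite X]

/-- No nonlinear degree properly divides another one. -/
def Anti (X : Type u) [Group X] : Prop :=
  ∀ a ∈ Cfsg.charDegrees X, ∀ b ∈ Cfsg.charDegrees X, a ≠ 1 → a ∣ b → a = b

/-- An automorphism fixes every nonlinear irreducible character. -/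
def Fixes (σ : X ≃* X) : Prop :=
  ∀ χ : X → ℂ, Cfsg.IsIrrCharacter X χ → Cfsg.charDegree χ ≠ 1 → ∀ x, χ (σ x) = χ x

/-- The inertia group. -/
def inertia (N : Subgroup X) [N.Normal] (θ : N → ℂ) : Subgroup X where
  carrier := {g | Clifford.conjBy N g θ = θ}
  one_mem' := Clifford.conjBy_one N θ
  mul_mem' {a b} ha hb := by
    show Clifford.conjBy N (a * b) θ = θ
    rw [← Clifford.conjBy_conjBy, show Clifford.conjBy N a θ = θ from ha]
    exact hb
  inv_mem' {a} ha := by
    show Clifford.conjBy N a⁻¹ θ = θ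
    conv_lhs => rw [← show Clifford.conjBy N a θ = θ from ha]
    rw [Clifford.conjBy_conjBy, mul_inv_cancel, Clifford.conjBy_one]

theorem Anti.eq_of_prime_pow (h : Anti X) {q : ℕ} (hq : q.Prime) {a b i j : ℕ}
    (ha : a ∈ Cfsg.charDegrees X) (hb : b ∈ Cfsg.charDegrees X) (ha1 : a ≠ 1) (hb1 : b ≠ 1)
    (hai : a ∣ q ^ i) (hbj : b ∣ q ^ j) : a = b := by
  obtain ⟨i', -, rfl⟩ := (Nat.dvd_prime_pow hq).1 hai
  obtain ⟨j', -, rfl⟩ := (Nat.dvd_prime_pow hq).1 hbj
  rcases le_total i' j' with hl | hl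
  · exact h _ ha _ hb ha1 (pow_dvd_pow q hl)
  · exact (h _ hb _ ha hb1 (pow_dvd_pow q hl)).symm

theorem exists_fixed {α : Type*} [Finite α] {p j : ℕ} [Fact p.Prime] (f : α → α)
    (hf : ∀ a, f^[p ^ j] a = a) (hα : ¬ p ∣ Nat.card α) : ∃ a, f a = a := by
  classical
  haveI := Fintype.ofFinite α
  let g : Function.End α := f
  have hit : ∀ (k : ℕ), g ^ k = f^[k] := by
    intro k
    induction k with
    | zero => rfl
    | succ k ih => rw [pow_succ', Function.iterate_succ', ← ih]; rfl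
  have h := Equiv.Perm.card_fixedPoints_modEq (f := g) (p := p) (n := j)
    ((hit _).trans (funext hf))
  by_contra hno
  push Not at hno
  haveI : IsEmpty (Function.fixedPoints g) := ⟨fun a => hno a.1 a.2⟩
  rw [Fintype.card_eq_zero (α := Function.fixedPoints g), ← Nat.card_eq_fintype_card] at h
  exact hα (Nat.modEq_zero_iff_dvd.1 h)

theorem iterate_conjNormal {G : Type*} [Group G] (N : Subgroup G) [N.Normal] (g : G) (n : ℕ)
    (x : N) : (MulAut.conjNormal g : N ≃* N)^[n] x = MulAut.conjNormal (g ^ n) x := by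
  induction n with
  | zero => simp
  | succ n ih =>
    rw [Function.iterate_succ', Function.comp_apply, ih, ← MulAut.mul_apply, ← map_mul, ← pow_succ']

/-- The orbit length times the degree of a constituent divides the degree. -/
theorem inertia_mul_dvd (A : Subgroup X) [A.Normal] [Fintype A] {χ : X → ℂ}
    (hχ : Cfsg.IsIrrCharacter X χ) {θ : A → ℂ} (hθ : Cfsg.IsIrrCharacter A θ)
    (hover : Cfsg.classInner (fun a : A => χ a) θ ≠ 0) (T : Subgroup X)
    (hT : ∀ g : X, g ∈ T ↔ Clifford.conjBy A g θ = θ) :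
    T.index * Cfsg.charDegree θ ∣ Cfsg.charDegree χ := by
  classical
  haveI := Fintype.ofFinite X
  obtain ⟨e, he⟩ := classInner_char_nat (isCharacter_restrict A (isCharacter_of_isIrr hχ))
    (isCharacter_of_isIrr hθ)
  have h := Clifford.card_mul_degree A hχ hθ hover T hT
  have h1 : (Cfsg.charDegree χ : ℂ) = χ 1 := charDegree_cast ⟨χ, hχ⟩
  have h2 : (Cfsg.charDegree θ : ℂ) = θ 1 := charDegree_cast ⟨θ, hθ⟩
  rw [he, ← h1, ← h2, ← T.index_mul_card] at h
  have hT0 : (Nat.card T : ℂ) ≠ 0 := Nat.cast_ne_zero.2 Nat.card_pos.ne'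
  refine ⟨e, Nat.cast_injective (R := ℂ) (mul_left_cancel₀ hT0 ?_)⟩
  rw [h]
  push_cast
  ring

/-- A linear character of the group restricts to invariant linear constituents. -/
theorem of_over_linear (A : Subgroup X) [A.Normal] [Fintype A] {χ : X → ℂ}
    (hχ : Cfsg.IsIrrCharacter X χ) {θ : A → ℂ} (hθ : Cfsg.IsIrrCharacter A θ)
    (hover : Cfsg.classInner (fun a : A => χ a) θ ≠ 0) (hd : Cfsg.charDegree χ = 1) :
    Cfsg.charDegree θ = 1 ∧ ∀ g, Clifford.conjBy A g θ = θ := by
  have h := inertia_mul_dvd A hχ hθ hover (inertia A θ) fun g => Iff.rfl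
  rw [hd, Nat.dvd_one, mul_eq_one] at h
  refine ⟨h.2, fun g => ?_⟩
  have hg : g ∈ inertia A θ := Subgroup.index_eq_one.1 h.1 ▸ Subgroup.mem_top g
  exact hg

/-- Twisting both sides by the same linear character preserves the inner product. -/
theorem classInner_mul_linear {H : Type*} [Group H] [Fintype H] (μ : H →* ℂˣ) (f g : H → ℂ) :
    Cfsg.classInner (fun h => (μ h : ℂ) * f h) (fun h => (μ h : ℂ) * g h) =
      Cfsg.classInner f g := by
  rw [classInner_def, classInner_def]
  congr 1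
  refine Finset.sum_congr rfl fun x _ => ?_
  have h1 : (μ x : ℂ) * starRingEnd ℂ (μ x : ℂ) = 1 := by
    rw [Complex.mul_conj, Complex.normSq_eq_norm_sq, linear_norm_eq_one μ x]
    simp
  rw [map_mul, mul_mul_mul_comm, h1, one_mul]

/-- The stabiliser lemma. -/
theorem sigma_div_mem (σ : X ≃* X) (A : Subgroup X) [A.Normal] [Fintype A]
    (hGA : commutator X ≤ A) (hσA : ∀ x, σ x ∈ A ↔ x ∈ A) {s : ℕ} (hs : s.Prime)
    (hsA : ¬ s ∣ Nat.card A) {θ : A → ℂ} (hθ : Cfsg.IsIrrCharacter A θ)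
    (hinv : ∀ χ : X → ℂ, Cfsg.IsIrrCharacter X χ →
      Cfsg.classInner (fun a : A => χ a) θ ≠ 0 → ∀ x, χ (σ x) = χ x)
    {x : X} (hxT : Clifford.conjBy A x θ = θ) {k : ℕ} (hxk : x ^ s ^ k ∈ A) :
    σ x * x⁻¹ ∈ A := by
  classical
  haveI := Fintype.ofFinite X
  by_contra hy
  set y := σ x * x⁻¹ with hydef
  -- a linear character
  set π := QuotientGroup.mk' A with hπ
  obtain ⟨l, hl⟩ : ∃ l : X ⧸ A →* ℂˣ, l (π y) ≠ 1 := by
    by_contra! hall
    have h1 := ThreeDegrees.mem_commutator_of_linear _ hall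
    have h2 : commutator (X ⧸ A) = ⊥ := by
      rw [commutator_def, ← Subgroup.map_top_of_surjective π (QuotientGroup.mk'_surjective A),
        ← Subgroup.map_commutator, ← commutator_def, Subgroup.map_eq_bot_iff, QuotientGroup.ker_mk']
      exact hGA
    rw [h2, Subgroup.mem_bot] at h1
    exact hy ((QuotientGroup.eq_one_iff y).1 h1)
  set lam : X →* ℂˣ := l.comp π with hlam
  have hlamA : ∀ a ∈ A, lam a = 1 := fun a ha => by
    rw [hlam, MonoidHom.comp_apply, show π a = 1 from (QuotientGroup.eq_one_iff a).2 ha, map_one]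
  set μ : X →* ℂˣ := lam.comp σ.toMonoidHom * lam⁻¹ with hμ
  have hμapply : ∀ t, μ t = lam (σ t) * (lam t)⁻¹ := fun t => rfl
  have hμA : ∀ a ∈ A, μ a = 1 := fun a ha => by
    rw [hμapply, hlamA a ha, hlamA _ ((hσA a).2 ha), inv_one, mul_one]
  have hμx : μ x ≠ 1 := by
    rw [hμapply, ← map_inv, ← map_mul]
    exact hl
  -- the subgroup generated by `A` and `x`
  set H : Subgroup X := A ⊔ Subgroup.zpowers x with hHdef
  have hAH : A ≤ H := le_sup_left
  have hxH : x ∈ H := Subgroup.mem_sup_right (Subgroup.mem_zpowers x)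
  haveI : H.Normal := Subgroup.Normal.of_commutator_le X (hGA.trans hAH)
  haveI := Fintype.ofFinite H
  set K := A.subgroupOf H with hK
  haveI := Fintype.ofFinite K
  have hHinv : ∀ h ∈ H, Clifford.conjBy A h θ = θ := by
    have hle : H ≤ inertia A θ := by
      rw [hHdef, sup_le_iff, Subgroup.zpowers_le]
      exact ⟨fun a ha => funext fun v => char_isClassFunction (isCharacter_of_isIrr hθ) v ⟨a, ha⟩,
        hxT⟩
    exact fun h hh => hle hh
  have hcyc : IsCyclic (H ⧸ K) := by
    refine ⟨QuotientGroup.mk' K ⟨x, hxH⟩, fun z => ?_⟩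
    obtain ⟨⟨h, hh⟩, rfl⟩ := QuotientGroup.mk'_surjective K z
    obtain ⟨a, ha, b, hb, rfl⟩ := Subgroup.mem_sup_of_normal_left.1 hh
    obtain ⟨i, rfl⟩ := Subgroup.mem_zpowers_iff.1 hb
    refine Subgroup.mem_zpowers_iff.2 ⟨i, ?_⟩
    rw [← map_zpow, QuotientGroup.mk'_apply, QuotientGroup.mk'_apply, QuotientGroup.eq, hK,
      Subgroup.mem_subgroupOf]
    have h3 := (inferInstance : A.Normal).conj_mem a ha (x ^ i)⁻¹
    simpa [mul_assoc] using h3
  set ε := Subgroup.subgroupOfEquivOfLe hAH with hε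
  obtain ⟨ζ, hζ, hζK⟩ := ExtendChar.exists_extension_cyclic (G := H) K hcyc
    ((isIrrCharacter_comp_mulEquiv ε).2 hθ) fun h => by
      funext n
      have h1 := congrFun (hHinv (h : X) h.2) (ε n)
      rw [Clifford.conjBy_apply] at h1 ⊢
      refine Eq.trans (congrArg θ (Subtype.ext ?_)) h1
      simp [hε]
  obtain ⟨χ, hχ⟩ := DerivedLength.exists_over_constituent H ⟨ζ, hζ⟩
  have hoverA : Cfsg.classInner (fun a : A => (χ : X → ℂ) a) θ ≠ 0 := by
    have h := Clifford.classInner_restrict_ne_zero K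
      (isCharacter_restrict H (irr_isCharacter χ)) hζ
      (isCharacter_of_isIrr ((isIrrCharacter_comp_mulEquiv ε).2 hθ)) hχ (by
        rw [show (fun n : K => ζ n) = θ ∘ ε from funext hζK,
          classInner_isIrr_self ((isIrrCharacter_comp_mulEquiv ε).2 hθ)]
        exact one_ne_zero)
    rw [← Basics.classInner_comp_equiv ε]
    exact h
  have hlχ : Cfsg.IsIrrCharacter X (fun t => (lam t : ℂ) * (χ : X → ℂ) t) :=
    isIrrCharacter_mul_linear χ.2 lam
  have hχμ : ∀ t, (μ t : ℂ) * (χ : X → ℂ) t = (χ : X → ℂ) t := by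
    intro t
    have h1 := hinv _ χ.2 hoverA t
    have h2 := hinv _ hlχ (by
      rw [show (fun a : A => (lam a : ℂ) * (χ : X → ℂ) a) = fun a : A => (χ : X → ℂ) a from
        funext fun a => by rw [hlamA a a.2, Units.val_one, one_mul]]
      exact hoverA) t
    rw [h1] at h2
    rw [hμapply, Units.val_mul, mul_comm (lam (σ t) : ℂ), mul_assoc, h2, ← mul_assoc,
      ← Units.val_mul, inv_mul_cancel, Units.val_one, one_mul]
  set μH : H →* ℂˣ := μ.comp H.subtype with hμH
  obtain ⟨g, hg⟩ := Clifford.exists_conjBy_eq H χ.2 hζ (isIrrCharacter_mul_linear hζ μH) hχ (by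
    rw [show (fun n : H => (χ : X → ℂ) n) = fun n : H => (μH n : ℂ) * (χ : X → ℂ) n from
      funext fun n => (hχμ n).symm, classInner_mul_linear]
    exact hχ)
  -- determinants
  have hζc := isCharacter_of_isIrr hζ
  obtain ⟨f, hf⟩ := ExtendChar.exists_hom (ExtendChar.detChar_isLinear hζc).1
    (ExtendChar.detChar_isLinear hζc).2
  obtain ⟨d, hd0, hd⟩ := irr_one_pos hζ
  obtain ⟨hμc, hμ1⟩ := ExtendChar.hom_isLinear μH
  have hdet := ExtendChar.detChar_mul_linear hζc hμc hμ1 hd ⟨x, hxH⟩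
  have hdet' : Cfsg.detChar (Clifford.conjBy H g ζ) ⟨x, hxH⟩ =
      (f (MulAut.conjNormal g ⟨x, hxH⟩) : ℂ) := by
    rw [Clifford.conjBy_eq_comp,
      ExtendChar.detChar_comp (MulAut.conjNormal g : H ≃* H).toMonoidHom hζc, Function.comp_apply,
      ← hf]
    rfl
  rw [hg] at hdet'
  have heq : μ x ^ d = f (MulAut.conjNormal g ⟨x, hxH⟩ * (⟨x, hxH⟩ : H)⁻¹) := by
    refine Units.ext ?_
    rw [map_mul, map_inv, Units.val_mul, ← hdet', Units.val_inv_eq_inv_val,
      show Cfsg.detChar (fun n : H => (μH n : ℂ) * ζ n) ⟨x, hxH⟩ =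
        Cfsg.detChar ((fun n : H => (μH n : ℂ)) * ζ) ⟨x, hxH⟩ from rfl, hdet, ← hf,
      mul_assoc, mul_inv_cancel₀ (Units.ne_zero _), mul_one, Units.val_pow_eq_pow_val]
    rfl
  set c : H := MulAut.conjNormal g ⟨x, hxH⟩ * (⟨x, hxH⟩ : H)⁻¹ with hc
  have hcA : (c : X) ∈ A := by
    rw [hc, Subgroup.coe_mul, Subgroup.coe_inv, MulAut.conjNormal_apply, ← commutatorElement_def]
    exact hGA (Subgroup.commutator_mem_commutator (Subgroup.mem_top _) (Subgroup.mem_top _))
  have hcpow : c ^ Nat.card A = 1 := by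
    have h3 : (⟨(c : X), hcA⟩ : A) ^ Nat.card A = 1 := pow_card_eq_one'
    refine Subtype.ext ?_
    rw [Subgroup.coe_pow, Subgroup.coe_one]
    exact congrArg Subtype.val h3
  have hμd : μ x ^ (d * Nat.card A) = 1 := by
    rw [pow_mul, heq, ← map_pow, hcpow, map_one]
  have hμs : μ x ^ s ^ k = 1 := by rw [← map_pow, hμA _ hxk]
  have hdA : d ∣ Nat.card A := by
    have h1 : (Cfsg.charDegree θ : ℂ) = (d : ℂ) := by
      rw [charDegree_cast ⟨θ, hθ⟩, ← hd]
      have := hζK 1
      rw [OneMemClass.coe_one, Function.comp_apply, map_one] at this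
      exact this.symm
    rw [← Nat.cast_injective (R := ℂ) h1]
    exact charDegree_dvd_card ⟨θ, hθ⟩
  refine hμx (ExtendChar.eq_one_of_pow_coprime hμd hμs ?_)
  refine Nat.Coprime.pow_right k ?_
  refine Nat.Coprime.mul_left ?_ ?_
  · exact (hs.coprime_iff_not_dvd.2 fun h => hsA (h.trans hdA)).symm
  · exact (hs.coprime_iff_not_dvd.2 hsA).symm

end Cfsg.Agent.BlocksChars.NDAD
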