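import Cfsg.Agent.BlocksChars.NDAD.Basic

/-!
# Small counting facts
-/

set_option autoImplicit false
set_option linter.style.haveILetI false

namespace Cfsg.Agent.BlocksChars.NDAD

/-- A subgroup contains an element as soon as it contains its prime-power parts. -/
theorem mem_of_parts {G : Type*} [Group G] [Finite G] (J : Subgroup G) {x : G}
    (hx : ∀ y ∈ Subgroup.zpowers x, ∀ s k : ℕ, s.Prime → orderOf y = s ^ k → y ∈ J) : x ∈ J := by
  suffices h : ∀ n : ℕ, ∀ y ∈ Subgroup.zpowers x, orderOf y = n → y ∈ J from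
    h _ x (Subgroup.mem_zpowers x) rfl
  intro n
  induction n using Nat.recOnPrimeCoprime with
  | zero => exact fun y _ hy => absurd hy (orderOf_pos y).ne'
  | prime_pow s k hs => exact fun y hy1 hy2 => hx y hy1 s k hs hy2
  | coprime a b ha hb hab iha ihb =>
    intro y hy1 hy2
    have h1 : y ^ b ∈ J := iha _ (Subgroup.pow_mem _ hy1 b) (by
      rw [orderOf_pow' _ (by omega), hy2, Nat.gcd_eq_right (dvd_mul_left b a),
        Nat.mul_div_cancel _ (by omega)])
    have h2 : y ^ a ∈ J := ihb _ (Subgroup.pow_mem _ hy1 a) (by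
      rw [orderOf_pow' _ (by omega), hy2, Nat.gcd_eq_right (dvd_mul_right a b),
        Nat.mul_div_cancel_left _ (by omega)])
    have e : y ^ (1 : ℤ) = (y ^ a) ^ Nat.gcdA a b * (y ^ b) ^ Nat.gcdB a b := by
      rw [← zpow_natCast, ← zpow_natCast y b, ← zpow_mul, ← zpow_mul, ← zpow_add,
        ← Nat.gcd_eq_gcd_ab, hab.gcd_eq_one, Nat.cast_one]
    rw [zpow_one] at e
    rw [e]
    exact J.mul_mem (J.zpow_mem h2 _) (J.zpow_mem h1 _)

/-- A multiple of every orbit length divides the number of points. -/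
theorem dvd_natCard_of_orbits {G α : Type*} [Group G] [MulAction G α] [Finite α] {e : ℕ}
    (h : ∀ a : α, e ∣ (MulAction.stabilizer G a).index) : e ∣ Nat.card α := by
  classical
  haveI := Fintype.ofFinite (Quotient (MulAction.orbitRel G α))
  rw [Nat.card_congr (MulAction.selfEquivSigmaOrbits G α), Nat.card_sigma]
  refine Finset.dvd_sum fun ω _ => ?_
  rw [Nat.card_coe_set_eq, ← MulAction.index_stabilizer]
  exact h _

/-- The arithmetic at the end. -/
theorem arith_false {r k k₀ m e : ℕ} (hr : 2 ≤ r) (hk₀ : 0 < k₀) (hk : k₀ < k) (hm : 0 < m)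
    (hmk : m < k) (he : e * (r ^ k₀ - 1) = r ^ k - 1) (hem : e ∣ r ^ m - 1) : False := by
  have hpow : ∀ n : ℕ, 1 ≤ r ^ n := fun n => Nat.one_le_pow n r (by omega)
  set g := Nat.gcd m k with hg
  have h1 : e ∣ r ^ g - 1 := by
    rw [hg, ← Nat.pow_sub_one_gcd_pow_sub_one]
    exact Nat.dvd_gcd hem ⟨_, he.symm⟩
  have hg0 : 0 < g := Nat.gcd_pos_of_pos_left k hm
  have hgk : g ∣ k := Nat.gcd_dvd_right m k
  have hgm : g ≤ m := Nat.le_of_dvd hm (Nat.gcd_dvd_left m k)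
  have hk0k : k₀ ∣ k := by
    have h2 : Nat.gcd (r ^ k₀ - 1) (r ^ k - 1) = r ^ k₀ - 1 :=
      Nat.gcd_eq_left ⟨e, by rw [← he, mul_comm]⟩
    rw [Nat.pow_sub_one_gcd_pow_sub_one] at h2
    have h3 : r ^ Nat.gcd k₀ k = r ^ k₀ := by
      have := hpow (Nat.gcd k₀ k)
      have := hpow k₀
      omega
    exact (Nat.pow_right_injective hr h3) ▸ Nat.gcd_dvd_right k₀ k
  have hhalf : ∀ d, d ∣ k → d < k → 2 * d ≤ k := by
    rintro d ⟨c, rfl⟩ hd
    rcases c with _ | _ | c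
    · simp at hd
    · simp at hd
    · calc 2 * d = d * 2 := mul_comm _ _
        _ ≤ d * (c + 1 + 1) := Nat.mul_le_mul_left d (by omega)
  have hgk0 : g + k₀ ≤ k := by
    have := hhalf g hgk (by omega)
    have := hhalf k₀ hk0k hk
    omega
  have hrg : 2 ≤ r ^ g := le_trans hr (Nat.le_self_pow hg0.ne' r)
  have hle : e ≤ r ^ g - 1 := Nat.le_of_dvd (by omega) h1
  have hmul : e * (r ^ k₀ - 1) ≤ (r ^ g - 1) * (r ^ k₀ - 1) := Nat.mul_le_mul_right _ hle
  have hk0 : 2 ≤ r ^ k₀ := le_trans hr (Nat.le_self_pow hk₀.ne' r)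
  have hk2 : r ^ g * r ^ k₀ ≤ r ^ k := by
    rw [← pow_add]
    exact Nat.pow_le_pow_right (by omega) hgk0
  rw [he] at hmul
  obtain ⟨x, hx⟩ : ∃ x, r ^ g = x + 2 := ⟨r ^ g - 2, by omega⟩
  obtain ⟨y, hy⟩ : ∃ y, r ^ k₀ = y + 2 := ⟨r ^ k₀ - 2, by omega⟩
  rw [hx, hy] at hk2 hmul
  rw [show x + 2 - 1 = x + 1 by omega, show y + 2 - 1 = y + 1 by omega] at hmul
  have e1 : (x + 2) * (y + 2) = x * y + 2 * x + 2 * y + 4 := by ring
  have e2 : (x + 1) * (y + 1) = x * y + x + y + 1 := by ring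
  omega

end Cfsg.Agent.BlocksChars.NDAD
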