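import Cfsg.Agent.BlocksChars.NDAD.Split
import Cfsg.Agent.BlocksChars.NDAD.Count

/-!
# The nilpotent normal subgroup is abelian
-/

set_option autoImplicit false
set_option linter.style.haveILetI false
set_option linter.unusedSectionVars false

namespace Cfsg.Agent.BlocksChars.NDAD

open Cfsg.Agent.Characters Cfsg.Agent.CharTheory Cfsg.Agent.BlocksChars.Degrees
open scoped commutatorElement ComplexConjugate

universe u

variable {X : Type u} [Group X] [Finite X]

theorem map_commutator_eq (A : Subgroup X) : (commutator A).map A.subtype = ⁅A, A⁆ := by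
  rw [commutator_def, Subgroup.map_commutator, ← MonoidHom.range_eq_map, Subgroup.range_subtype]

theorem map_eq_of_stable (σ : X ≃* X) {A : Subgroup X} (h : ∀ x, σ x ∈ A ↔ x ∈ A) :
    A.map (σ : X →* X) = A := by
  ext x
  constructor
  · rintro ⟨a, ha, rfl⟩
    exact (h a).2 ha
  · intro hx
    exact ⟨σ.symm x, (h _).1 (by rw [σ.apply_symm_apply]; exact hx), σ.apply_symm_apply x⟩

theorem stable_of_map_eq (σ : X ≃* X) {A : Subgroup X} (h : A.map (σ : X →* X) = A) (x : X) :
    σ x ∈ A ↔ x ∈ A := by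
  conv_lhs => rw [← h]
  rw [Subgroup.mem_map]
  exact ⟨fun ⟨a, ha, e⟩ => σ.injective e ▸ ha, fun hx => ⟨x, hx, rfl⟩⟩

/-- The degree of an irreducible character of a normal subgroup with one stabiliser. -/
theorem camina_false {σ : X ≃* X} {p : ℕ} [Fact p.Prime] {A : Subgroup X} [A.Normal] {u : X}
    (h : AHyp σ p A u) (hnil : Group.IsNilpotent A) (hna : ¬ ⁅A, A⁆ = ⊥)
    (hmin : ∀ L : Subgroup X, L.Normal → L ≤ A → (∀ x, σ x ∈ L ↔ x ∈ L) → L ≠ ⊥ →
      ⁅A, A⁆ ≤ L) : False := by
  classical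
  haveI := Fintype.ofFinite X
  haveI := Fintype.ofFinite A
  set Z := ⁅A, A⁆ with hZdef
  haveI : Z.Normal := Subgroup.commutator_normal A A
  have hZA : Z ≤ A := Subgroup.commutator_le_self A
  have hstabA := map_eq_of_stable σ h.stable
  have hZst : Z.map (σ : X →* X) = Z := by rw [hZdef, Subgroup.map_commutator, hstabA]
  -- `Z` is central in `A`
  have hcen : ⁅Z, A⁆ = ⊥ := by
    by_contra hne
    haveI : (⁅Z, A⁆).Normal := Subgroup.commutator_normal Z A
    have hle : Z ≤ ⁅Z, A⁆ := hmin _ inferInstance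
      ((Subgroup.commutator_le_right Z A))
      (stable_of_map_eq σ (by rw [Subgroup.map_commutator, hZst, hstabA])) hne
    obtain ⟨n, hn⟩ := (Subgroup.isNilpotent_iff_lowerCentralSeries A).1 hnil
    have hall : ∀ k, Z ≤ A.lowerCentralSeries k := by
      intro k
      induction k with
      | zero => exact hZA
      | succ k ih =>
        rw [Subgroup.lowerCentralSeries_succ]
        exact hle.trans (Subgroup.commutator_mono ih le_rfl)
    exact hna (le_bot_iff.1 (hn ▸ hall n))
  have hcomm : ∀ z ∈ Z, ∀ a ∈ A, a * z = z * a := fun z hz a ha =>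
    Subgroup.mem_centralizer_iff.1 (Subgroup.commutator_eq_bot_iff_le_centralizer.1 hcen hz) a ha
  -- `A` is an `r`-group
  have hZ1 : Nat.card Z ≠ 1 := fun e => hna (Subgroup.card_eq_one.1 e)
  set r := (Nat.card Z).minFac with hrdef
  have hr : r.Prime := Nat.minFac_prime hZ1
  haveI := Fact.mk hr
  have hA : IsPGroup r A := by
    have hs : ∀ s : ℕ, s.Prime → s ∣ Nat.card A → s = r := by
      intro s hs hsA
      haveI := Fact.mk hs
      let S : Sylow s A := default
      haveI : (S : Subgroup A).Normal := inferInstance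
      haveI : (S : Subgroup A).Characteristic := S.characteristic_of_normal inferInstance
      set L := (S : Subgroup A).map A.subtype with hL
      haveI : L.Normal := ConjAct.normal_of_characteristic_of_normal
      have hmem : ∀ x, x ∈ L ↔ x ∈ A ∧ ∃ k, orderOf x = s ^ k := by
        intro x
        constructor
        · rintro ⟨a, ha, rfl⟩
          obtain ⟨k, hk⟩ := IsPGroup.iff_orderOf.1 S.2 ⟨a, ha⟩
          exact ⟨a.2, k, (Subgroup.orderOf_coe a).trans ((Subgroup.orderOf_mk a ha).symm.trans hk)⟩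
        · rintro ⟨hxA, k, hk⟩
          refine ⟨⟨x, hxA⟩, ?_, rfl⟩
          have hp : IsPGroup s (Subgroup.zpowers (⟨x, hxA⟩ : A)) := by
            refine IsPGroup.of_card (n := k) ?_
            rw [Nat.card_zpowers, Subgroup.orderOf_mk, hk]
          obtain ⟨Q, hQ⟩ := hp.exists_le_sylow
          haveI : Unique (Sylow s A) := Sylow.unique_of_normal S inferInstance
          rw [Subsingleton.elim Q S] at hQ
          exact hQ (Subgroup.mem_zpowers _)
      have hLne : L ≠ ⊥ := by
        obtain ⟨a, ha⟩ := exists_prime_orderOf_dvd_card' s hsA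
        intro e
        have h1 : (a : X) ∈ L :=
          (hmem _).2 ⟨a.2, 1, by rw [pow_one, Subgroup.orderOf_coe, ha]⟩
        rw [e, Subgroup.mem_bot] at h1
        rw [← Subgroup.orderOf_coe, h1, orderOf_one] at ha
        exact hs.ne_one ha.symm
      have hle := hmin L inferInstance (Subgroup.map_subtype_le _) (fun x => by
        rw [hmem, hmem, h.stable,
          show orderOf (σ x) = orderOf x from orderOf_injective σ.toMonoidHom σ.injective x]) hLne
      obtain ⟨z, hz⟩ := exists_prime_orderOf_dvd_card' r (Nat.minFac_dvd (Nat.card Z))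
      obtain ⟨-, k, hk⟩ := (hmem _).1 (hle z.2)
      rw [Subgroup.orderOf_coe, hz] at hk
      rcases Nat.eq_zero_or_pos k with rfl | hk0
      · rw [pow_zero] at hk; exact absurd hk hr.ne_one
      · exact ((Nat.prime_dvd_prime_iff_eq hs hr).1 (hk ▸ dvd_pow_self s hk0.ne'))
    exact IsPGroup.of_card
      (Nat.eq_prime_pow_of_unique_prime_dvd Nat.card_pos.ne' fun hd hdA => hs _ hd hdA)
  obtain ⟨ra, hra⟩ := hA.exists_card_eq
  -- the derived subgroup inside `A`
  have hcommA : ∀ a : A, a ∈ commutator A ↔ (a : X) ∈ Z := fun a => by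
    rw [hZdef, ← map_commutator_eq A, Subgroup.mem_map]
    exact ⟨fun ha => ⟨a, ha, rfl⟩, fun ⟨b, hb, e⟩ => Subtype.ext e ▸ hb⟩
  have hcardZ : Nat.card (commutator A) = Nat.card Z := by
    rw [hZdef, ← map_commutator_eq A]
    exact Nat.card_congr (Subgroup.equivMapOfInjective _ _ A.subtype_injective).toEquiv
  haveI : Finite (A →* ℂˣ) := Nat.finite_of_card_ne_zero (by
    rw [card_linear_hom]; exact Subgroup.index_ne_zero_of_finite)
  obtain ⟨kV, -, hkV⟩ := (Nat.dvd_prime_pow hr).1
    (hra ▸ Subgroup.index_dvd_card (commutator A))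
  obtain ⟨m, -, hm⟩ := (Nat.dvd_prime_pow hr).1
    (hra ▸ hcardZ ▸ Subgroup.card_subgroup_dvd_card (commutator A))
  have hm0 : 0 < m := Nat.pos_of_ne_zero fun e => hZ1 (by rw [hm, e, pow_zero])
  have hLcard : Nat.card (A →* ℂˣ) = r ^ kV := by rw [card_linear_hom, hkV]
  -- a nontrivial linear character
  obtain ⟨l₀, hl₀⟩ : ∃ l : A →* ℂˣ, l ≠ 1 := by
    by_contra! hall
    refine hna (le_bot_iff.1 ?_)
    have hAZ : A ≤ Z := fun a ha => (hcommA ⟨a, ha⟩).1
      (ThreeDegrees.mem_commutator_of_linear _ fun l => by rw [hall l, MonoidHom.one_apply])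
    calc Z ≤ ⁅Z, A⁆ := hZdef ▸ Subgroup.commutator_mono hAZ le_rfl
      _ = ⊥ := hcen
  set K := st A l₀ with hKdef
  haveI hKn : K.Normal := Subgroup.Normal.of_commutator_le X (h.comm.trans (le_st A l₀))
  have hstK : ∀ l : A →* ℂˣ, l ≠ 1 → st A l = K := fun l hl => h.st_eq hl hl₀
  have hfree : ∀ b ∉ K, ∀ l : A →* ℂˣ, tw A b l = l → l = 1 := fun b hb l hl => by
    by_contra hne
    exact hb ((hstK l hne) ▸ hl)
  -- inertia groups of nonlinear characters of `A` are not in `K`
  have houtK : ∀ φ : A → ℂ, Cfsg.IsIrrCharacter A φ → Cfsg.charDegree φ ≠ 1 →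
      ∃ b, Clifford.conjBy A b φ = φ ∧ b ∉ K := by
    intro φ hφ hφ1
    by_contra! hall
    have hle : inertia A φ ≤ K := hall
    obtain ⟨χ, hχ⟩ := DerivedLength.exists_over_constituent A ⟨φ, hφ⟩
    have hdvd := inertia_mul_dvd A χ.2 hφ hχ (inertia A φ) fun g => Iff.rfl
    have hd1 : Cfsg.charDegree (χ : X → ℂ) ≠ 1 := fun e =>
      hφ1 (of_over_linear A χ.2 hφ hχ e).1
    have h1 := h.anti _ (h.index_mem l₀) _ ⟨χ, rfl⟩ (h.index_ne_one hl₀)
      ((Subgroup.index_dvd_of_le hle).trans ((dvd_mul_right _ _).trans hdvd))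
    rw [← h1] at hdvd
    have h2 : K.index * Cfsg.charDegree φ ∣ K.index * 1 := by
      rw [mul_one]
      exact (mul_dvd_mul_right (Subgroup.index_dvd_of_le hle) _).trans hdvd
    exact hφ1 (Nat.dvd_one.1
      (Nat.dvd_of_mul_dvd_mul_left (Nat.pos_of_ne_zero Subgroup.index_ne_zero_of_finite) h2))
  -- a fixed twist
  have hconj : ∀ (g : X) (l : A →* ℂˣ) (f : A → ℂ), Clifford.conjBy A g (fun a => (l a : ℂ) * f a) =
      fun a => (tw A g l a : ℂ) * Clifford.conjBy A g f a := by
    intro g l f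
    funext a
    rw [Clifford.conjBy_apply, Clifford.conjBy_apply, tw_apply,
      show MulAut.conjNormal g a =
        (⟨g * a * g⁻¹, (inferInstance : A.Normal).conj_mem a a.2 g⟩ : A) from
      Subtype.ext (by simp)]
  have hkey : ∀ φ : A → ℂ, ∀ b, Clifford.conjBy A b φ = φ → b ∉ K → ∀ μ : A →* ℂˣ,
      (∀ a, (tw A b μ a : ℂ) * φ a = (μ a : ℂ) * φ a) → ∀ a, (μ a : ℂ) * φ a = φ a := by
    intro φ b hbφ hb μ hμ
    let S : Set (A →* ℂˣ) := {l | ∀ a, (l a : ℂ) * φ a = φ a}
    have hS : ∀ l ∈ S, tw A b l * l⁻¹ ∈ S := fun l hl a => by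
      have h1 : (tw A b l a : ℂ) * φ a = φ a := by
        have h2 := congrFun (hconj b l φ) a
        rw [show (fun a => (l a : ℂ) * φ a) = φ from funext hl, hbφ] at h2
        exact h2.symm
      rw [MonoidHom.mul_apply, MonoidHom.inv_apply, Units.val_mul, mul_assoc]
      conv_lhs => rw [← hl a, ← mul_assoc ((l a)⁻¹ : ℂˣ).val, Units.inv_mul, one_mul]
      exact h1
    have hinj : ∀ l l' : A →* ℂˣ, tw A b l * l⁻¹ = tw A b l' * l'⁻¹ → l = l' := by
      intro l l' e
      have h1 : tw A b (l * l'⁻¹) = l * l'⁻¹ := MonoidHom.ext fun a => by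
        have h2 := DFunLike.congr_fun e a
        simp only [MonoidHom.mul_apply, MonoidHom.inv_apply] at h2
        simp only [tw_apply, MonoidHom.mul_apply, MonoidHom.inv_apply] at h2 ⊢
        rwa [mul_inv_eq_iff_eq_mul, mul_right_comm, eq_mul_inv_iff_mul_eq,
          mul_comm (l' _), ← mul_inv_eq_iff_eq_mul, mul_right_comm, ← eq_mul_inv_iff_mul_eq] at h2
      exact MonoidHom.ext fun a => mul_inv_eq_one.1 (DFunLike.congr_fun (hfree b hb _ h1) a)
    have hμS : tw A b μ * μ⁻¹ ∈ S := fun a => by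
      rw [MonoidHom.mul_apply, MonoidHom.inv_apply, Units.val_mul, mul_comm (tw A b μ a : ℂ),
        mul_assoc, hμ, ← mul_assoc, Units.inv_mul, one_mul]
    let f : S → S := fun l => ⟨tw A b l.1 * l.1⁻¹, hS _ l.2⟩
    have hf : Function.Injective f := fun l l' e =>
      Subtype.ext (hinj _ _ (congrArg Subtype.val e))
    obtain ⟨⟨l, hl⟩, hle⟩ := Finite.injective_iff_surjective.1 hf ⟨_, hμS⟩
    exact hinj l μ (congrArg Subtype.val hle) ▸ hl
  have htwist : ∀ φ : A → ℂ, Cfsg.IsIrrCharacter A φ → Cfsg.charDegree φ ≠ 1 →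
      ∀ (l : A →* ℂˣ) (a : A), (l a : ℂ) * φ a = φ a := by
    intro φ hφ hφ1 l
    obtain ⟨b, hb, hbK⟩ := houtK φ hφ hφ1
    have hlφ := isIrrCharacter_mul_linear hφ l
    obtain ⟨b', hb', hb'K⟩ := houtK _ hlφ (by
      intro e
      refine hφ1 ?_
      rw [← e]
      exact congrArg (fun z : ℂ => ⌊z.re⌋₊)
        (show φ 1 = (l 1 : ℂ) * φ 1 by rw [map_one, Units.val_one, one_mul]))
    rw [hconj] at hb'
    set μ := l * (tw A b' l)⁻¹ with hμdef
    have h1 : Clifford.conjBy A b' φ = fun a => (μ a : ℂ) * φ a := funext fun a => by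
      have e : (tw A b' l a : ℂ) * Clifford.conjBy A b' φ a = (l a : ℂ) * φ a := congrFun hb' a
      rw [hμdef, MonoidHom.mul_apply, MonoidHom.inv_apply, Units.val_mul,
        mul_comm (l a : ℂ), mul_assoc, ← e, ← mul_assoc, Units.inv_mul, one_mul]
    have hc : b' * b * b'⁻¹ * b⁻¹ ∈ A := h.commutator_mem b' b
    have h2 : Clifford.conjBy A b (Clifford.conjBy A b' φ) = Clifford.conjBy A b' φ := by
      rw [Clifford.conjBy_conjBy, show b' * b = (b' * b * b'⁻¹ * b⁻¹) * b * b' by group,
        ← Clifford.conjBy_conjBy, ← Clifford.conjBy_conjBy,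
        show Clifford.conjBy A (b' * b * b'⁻¹ * b⁻¹) φ = φ from
          funext fun v => char_isClassFunction (isCharacter_of_isIrr hφ) v ⟨_, hc⟩, hb]
    rw [h1, hconj, hb] at h2
    have h3 := hkey φ b hb hbK μ fun a => congrFun h2 a
    have hb'φ : Clifford.conjBy A b' φ = φ := h1.trans (funext h3)
    rw [hb'φ] at hb'
    exact hkey φ b' hb'φ hb'K l fun a => congrFun hb' a
  have hvan : ∀ φ : A → ℂ, Cfsg.IsIrrCharacter A φ → Cfsg.charDegree φ ≠ 1 →
      ∀ a : A, (a : X) ∉ Z → φ a = 0 := by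
    intro φ hφ hφ1 a ha
    by_contra hne
    refine ha ((hcommA a).1 (ThreeDegrees.mem_commutator_of_linear a fun l => Units.ext ?_))
    exact mul_right_cancel₀ hne
      ((htwist φ hφ hφ1 l a).trans (by rw [Units.val_one, one_mul]))
  -- `|Z| < |A : Z|`
  have hmk : m < kV := by
    obtain ⟨a, ha⟩ : ∃ a : A, a ∉ commutator A := by
      by_contra! hall
      refine hl₀ (MonoidHom.ext fun a => ?_)
      rw [MonoidHom.one_apply]
      exact MonoidHom.mem_ker.1 (Abelianization.commutator_subset_ker l₀ (hall a))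
    haveI := Fintype.ofFinite (Cfsg.IrrCharacter A)
    have hsum := second_orthogonality a a
    rw [if_pos (IsConj.refl a)] at hsum
    haveI := Fintype.ofFinite {χ : Cfsg.IrrCharacter A // (χ : A → ℂ) 1 = 1}
    have hval : ∀ χ : Cfsg.IrrCharacter A, (χ : A → ℂ) a * conj ((χ : A → ℂ) a) =
        if (χ : A → ℂ) 1 = 1 then 1 else 0 := by
      intro χ
      split_ifs with h1
      · obtain ⟨f, hf⟩ := ExtendChar.exists_hom (irr_isCharacter χ) h1
        rw [← hf, Complex.mul_conj, Complex.normSq_eq_norm_sq, linear_norm_eq_one f a]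
        simp
      · rw [hvan _ χ.2 (fun e => h1 (by rw [← charDegree_cast, e, Nat.cast_one]))
          a (fun ha' => ha ((hcommA a).2 ha')), zero_mul]
    rw [Finset.sum_congr rfl fun χ _ => hval χ, Finset.sum_boole, ← Fintype.card_subtype,
      ← Nat.card_eq_fintype_card, card_degree_one, hkV, Nat.cast_inj] at hsum
    have hle : commutator A ≤ Subgroup.centralizer ({a} : Set A) := fun z hz =>
      Subgroup.mem_centralizer_iff.2 fun b hb => by
        rw [Set.mem_singleton_iff.1 hb]
        exact Subtype.ext (hcomm z ((hcommA z).1 hz) a a.2)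
    have haC : a ∈ Subgroup.centralizer ({a} : Set A) :=
      Subgroup.mem_centralizer_iff.2 fun b hb => by rw [Set.mem_singleton_iff.1 hb]
    have hlt : Nat.card (commutator A) < Nat.card (Subgroup.centralizer ({a} : Set A)) := by
      by_contra! hge
      exact ha (Subgroup.eq_of_le_of_card_ge hle hge ▸ haC)
    rw [hcardZ, hm, ← hsum] at hlt
    exact (Nat.pow_lt_pow_iff_right hr.one_lt).1 hlt
  -- the subgroup of elements moved into `K`
  have hsigK : ∀ x, σ x ∈ K ↔ x ∈ K := by
    intro x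
    have hne : sig A σ h.stable l₀ ≠ 1 := fun e =>
      hl₀ (sig_injective A σ h.stable (e.trans (MonoidHom.ext fun _ => rfl)))
    conv_rhs => rw [← hstK _ hne]
    rw [mem_st, mem_st, tw_sig]
    exact (sig_injective A σ h.stable).eq_iff.symm
  let Ks : Subgroup X :=
    { carrier := {x | σ x * x⁻¹ ∈ K}
      one_mem' := by simp
      mul_mem' := fun {x y} hx hy => by
        show σ (x * y) * (x * y)⁻¹ ∈ K
        rw [map_mul, show σ x * σ y * (x * y)⁻¹ =
          (σ x * (σ y * y⁻¹) * (σ x)⁻¹) * (σ x * x⁻¹) by group]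
        exact K.mul_mem (hKn.conj_mem _ hy _) hx
      inv_mem' := fun {x} hx => by
        show σ x⁻¹ * x⁻¹⁻¹ ∈ K
        have h1 := hKn.conj_mem _ (K.inv_mem hx) (σ x)⁻¹
        rw [map_inv, show (σ x)⁻¹ * x⁻¹⁻¹ = (σ x)⁻¹ * (σ x * x⁻¹)⁻¹ * (σ x)⁻¹⁻¹ by group]
        exact h1 }
  have hKKs : K ≤ Ks := fun x hx => K.mul_mem ((hsigK x).2 hx) (K.inv_mem hx)
  haveI : Ks.Normal := Subgroup.Normal.of_commutator_le X
    ((h.comm.trans (le_st A l₀)).trans hKKs)
  set e := Ks.index with hedef
  have he2 : 2 ≤ e := by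
    have h0 : e ≠ 0 := Subgroup.index_ne_zero_of_finite
    have h1 : e ≠ 1 := by
      intro h1
      obtain ⟨y, hy⟩ := h.diff
      have hyK : σ y * y⁻¹ ∈ K := (Subgroup.index_eq_one.1 h1 ▸ Subgroup.mem_top y : y ∈ Ks)
      refine hl₀ (h.eq_one_of_fixed ?_)
      rw [← hKdef, show u = (σ y * y⁻¹ * u⁻¹)⁻¹ * (σ y * y⁻¹) by group]
      exact K.mul_mem (K.inv_mem (le_st A l₀ hy)) hyK
    omega
  -- orbits on the characters of `Z`
  have heZ : e ∣ r ^ m - 1 := by
    letI := act Z
    haveI : Finite (Z →* ℂˣ) := Nat.finite_of_card_ne_zero (by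
      rw [card_linear_hom]; exact Subgroup.index_ne_zero_of_finite)
    let P : SubMulAction X (Z →* ℂˣ) :=
      { carrier := {ν | ν ≠ 1}
        smul_mem' := fun g ν hν h1 => hν (by
          have h2 : tw Z g⁻¹ ν = 1 := h1
          rw [← tw_one Z ν, ← inv_mul_cancel g, tw_mul, h2, tw_hom_one]) }
    haveI : Finite P := Subtype.finite
    have hPcard : Nat.card P = r ^ m - 1 := by
      have hZab : commutator Z = ⊥ := by
        rw [commutator_def, Subgroup.commutator_eq_bot_iff_le_centralizer]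
        exact fun x _ => Subgroup.mem_centralizer_iff.2 fun y _ =>
          Subtype.ext (hcomm x x.2 y (hZA y.2))
      rw [show Nat.card P = Nat.card {ν : Z →* ℂˣ // ν ≠ 1} from rfl,
        ← hm, ← Subgroup.index_bot (G := Z), ← hZab, ← card_linear_hom]
      haveI := Fintype.ofFinite (Z →* ℂˣ)
      rw [Nat.card_eq_fintype_card, Nat.card_eq_fintype_card, Fintype.card_subtype_compl,
        Fintype.card_subtype_eq]
    rw [← hPcard]
    refine dvd_natCard_of_orbits (G := X) fun ν => ?_
    rw [SubMulAction.stabilizer_of_subMul, stabilizer_act]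
    refine Subgroup.index_dvd_of_le fun x hx => mem_of_parts Ks fun y hy s k hs hy2 => ?_
    have hyν : y ∈ st Z (ν : Z →* ℂˣ) := Subgroup.zpowers_le.2 hx hy
    by_cases hsr : s = r
    · -- an `r`-element fixes a nontrivial linear character of `A`
      subst hsr
      have hit : ∀ (n : ℕ) (l : A →* ℂˣ), (tw A y)^[n] l = tw A (y ^ n) l := by
        intro n
        induction n with
        | zero => intro l; rw [pow_zero, tw_one]; rfl
        | succ n ih => intro l; rw [Function.iterate_succ_apply', ih, pow_succ, tw_mul]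
      let f : {l : A →* ℂˣ // l ≠ 1} → {l : A →* ℂˣ // l ≠ 1} := fun l =>
        ⟨tw A y l.1, fun e => l.2 (by
          rw [← tw_one A l.1, ← mul_inv_cancel y, tw_mul, e, tw_hom_one])⟩
      have hval : ∀ (n : ℕ) (l : {l : A →* ℂˣ // l ≠ 1}),
          ((f^[n] l).1 : A →* ℂˣ) = (tw A y)^[n] l.1 := by
        intro n
        induction n with
        | zero => intro l; rfl
        | succ n ih =>
          intro l
          rw [Function.iterate_succ_apply', Function.iterate_succ_apply', ← ih]
      obtain ⟨l, hl⟩ := exists_fixed (p := r) (j := k) f (fun l => Subtype.ext (by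
        rw [hval, hit, ← hy2, pow_orderOf_eq_one, tw_one])) (by
        haveI := Fintype.ofFinite (A →* ℂˣ)
        rw [Nat.card_eq_fintype_card, Fintype.card_subtype_compl, Fintype.card_subtype_eq,
          ← Nat.card_eq_fintype_card, hLcard]
        intro hd
        have h1 : r ∣ r ^ kV := dvd_pow_self r (by omega)
        have h2 := Nat.dvd_sub h1 hd
        rw [Nat.sub_sub_self (Nat.one_le_pow _ _ hr.pos), Nat.dvd_one] at h2
        exact hr.ne_one h2)
      exact hKKs (hstK l.1 l.2 ▸ (mem_st A).2 (congrArg Subtype.val hl))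
    · -- the element fixes a character of `A` over the one of `Z`
      haveI := Fintype.ofFinite (Z.subgroupOf A)
      set ε := Subgroup.subgroupOfEquivOfLe hZA
      set ν' : Z.subgroupOf A →* ℂˣ := (ν : Z →* ℂˣ).comp ε.toMonoidHom with hν'
      obtain ⟨φ, hφ⟩ := DerivedLength.exists_over_constituent (Z.subgroupOf A)
        ⟨_, isIrrCharacter_linear ν'⟩
      have hres : (fun n : Z.subgroupOf A => (φ : A → ℂ) n) =
          Cfsg.classInner (fun n : Z.subgroupOf A => (φ : A → ℂ) n) (fun n => (ν' n : ℂ)) •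
            fun n => (ν' n : ℂ) :=
        Clifford.restrict_eq_smul_of_invariant _ φ.2 (isIrrCharacter_linear ν') hφ fun a =>
          funext fun n => by
            rw [Clifford.conjBy_apply]
            refine congrArg (fun b => (ν' b : ℂ)) (Subtype.ext (Subtype.ext ?_))
            show (a : X) * ((n : A) : X) * (a : X)⁻¹ = ((n : A) : X)
            rw [hcomm ((n : A) : X) (Subgroup.mem_subgroupOf.1 n.2) (a : X) a.2, mul_inv_cancel_right]
      set c := Cfsg.classInner (fun n : Z.subgroupOf A => (φ : A → ℂ) n) (fun n => (ν' n : ℂ))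
      have hφ1 : Cfsg.charDegree (φ : A → ℂ) ≠ 1 := by
        intro e1
        have h1 : (φ : A → ℂ) 1 = 1 := by rw [← charDegree_cast, e1, Nat.cast_one]
        have hc : c = 1 := by
          have h2 := congrFun hres 1
          simp only [OneMemClass.coe_one, Pi.smul_apply, map_one, Units.val_one, smul_eq_mul,
            mul_one] at h2
          exact h2.symm.trans h1
        refine ν.2 (MonoidHom.ext fun z => Units.ext ?_)
        have h2 := congrFun hres (ε.symm z)
        rw [hc, one_smul, hν', MonoidHom.comp_apply] at h2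
        rw [ThreeDegrees.commutator_le_linear_ker (irr_isCharacter φ) h1
          ((hcommA _).2 (ε.symm z).2), h1] at h2
        simpa using h2.symm
      have hyφ : Clifford.conjBy A y (φ : A → ℂ) = φ := by
        funext a
        rw [Clifford.conjBy_apply]
        by_cases ha : (a : X) ∈ Z
        · have ha' : y * (a : X) * y⁻¹ ∈ Z := (inferInstance : Z.Normal).conj_mem _ ha y
          have h1 := congrFun hres ⟨⟨_, hZA ha'⟩, ha'⟩
          have h2 := congrFun hres ⟨a, ha⟩
          refine h1.trans (Eq.trans ?_ h2.symm)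
          simp only [Pi.smul_apply, smul_eq_mul]
          refine congrArg (fun z : ℂˣ => c * (z : ℂ)) ?_
          refine Eq.trans ?_ ((mem_st_iff Z).1 hyν ⟨a, ha⟩)
          exact congrArg (ν : Z →* ℂˣ) (Subtype.ext (by simp [ε]))
        · have ha' : y * (a : X) * y⁻¹ ∉ Z := fun h1 => ha (by
            have h2 := (inferInstance : Z.Normal).conj_mem _ h1 y⁻¹
            simpa [mul_assoc] using h2)
          rw [hvan _ φ.2 hφ1 _ ha', hvan _ φ.2 hφ1 _ ha]
      have hsA : ¬ s ∣ Nat.card A := fun hd => hsr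
        ((Nat.prime_dvd_prime_iff_eq hs hr).1 (hs.dvd_of_dvd_pow (hra ▸ hd)))
      refine le_st A l₀ ?_
      exact sigma_div_mem σ A h.comm h.stable hs hsA φ.2 (fun χ hχ hover =>
        h.fixes χ hχ fun e1 => hφ1 (of_over_linear A hχ φ.2 hover e1).1) hyφ
        (k := k) (by rw [← hy2, pow_orderOf_eq_one]; exact A.one_mem)
  -- fixed linear characters of `A`
  obtain ⟨j, hj⟩ := h.iter
  set sg := sig A σ h.stable with hsg
  let Fx := {l : A →* ℂˣ // l ≠ 1 ∧ sg l = l}
  haveI : Finite Fx := Subtype.finite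
  have hfixmove : ∀ k ∈ Ks, ∀ l : A →* ℂˣ, l ≠ 1 → sg l = l → sg (tw A k l) = tw A k l := by
    intro k hk l hl hl'
    rw [hsg, sig_tw, ← hsg, hl']
    have h1 : k * (σ.symm k)⁻¹ ∈ K := by
      refine (hsigK _).1 ?_
      rw [map_mul, map_inv, σ.apply_symm_apply]
      exact hk
    have h2 : tw A (k * (σ.symm k)⁻¹) l = l := (mem_st A).1 ((hstK l hl).symm ▸ h1)
    conv_rhs => rw [← inv_mul_cancel_right k (σ.symm k), tw_mul, h2]
  have hbij : Function.Bijective (fun z : Fx × (X ⧸ Ks) =>
      (⟨tw A z.2.out z.1.1, fun e => z.1.2.1 (by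
        rw [← tw_one A z.1.1, ← mul_inv_cancel z.2.out, tw_mul, e, tw_hom_one])⟩ :
        {l : A →* ℂˣ // l ≠ 1})) := by
    constructor
    · rintro ⟨⟨l, hl, hl'⟩, c⟩ ⟨⟨l₂, hl2, hl2'⟩, c'⟩ e
      have e1 : tw A c.out l = tw A c'.out l₂ := congrArg Subtype.val e
      have e2 := congrArg sg e1
      rw [hsg, sig_tw, sig_tw, ← hsg, hl', hl2'] at e2
      set s := c.out
      set s' := c'.out
      have q1 : l₂ = tw A (s * s'⁻¹) l := by
        rw [tw_mul, e1, ← tw_mul, mul_inv_cancel, tw_one]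
      have q2 : l₂ = tw A (σ.symm (s * s'⁻¹)) l := by
        rw [map_mul, map_inv, tw_mul, e2, ← tw_mul, mul_inv_cancel, tw_one]
      set t := s * s'⁻¹
      have h1 : t * (σ.symm t)⁻¹ ∈ st A l := by
        rw [mem_st, tw_mul, ← q1, q2, ← tw_mul, mul_inv_cancel, tw_one]
      rw [hstK l hl] at h1
      have h2 : σ t * t⁻¹ ∈ K := by
        have := (hsigK _).2 h1
        rwa [map_mul, map_inv, σ.apply_symm_apply] at this
      have hcc : c = c' := by
        rw [← Quotient.out_eq c, ← Quotient.out_eq c']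
        refine QuotientGroup.eq.2 ?_
        have h3 : t ∈ Ks := h2
        have h4 := (inferInstance : Ks.Normal).conj_mem _ (Ks.inv_mem h3) s⁻¹
        simpa [t, mul_assoc] using h4
      subst hcc
      have q3 : l₂ = l := by
        rw [q1, show t = 1 from mul_inv_cancel s, tw_one]
      exact Prod.ext (Subtype.ext q3.symm) rfl
    · rintro ⟨n, hn⟩
      let O := {n' : A →* ℂˣ // ∃ g, tw A g n = n'}
      obtain ⟨g₀, hg₀⟩ := exists_tw_sig A σ h.stable h.fixes n (h.st_ne_top hn)
      let f : O → O := fun n' => ⟨sg n'.1, by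
        obtain ⟨g, hg⟩ := n'.2
        refine ⟨g₀ * σ.symm g, ?_⟩
        rw [tw_mul, hg₀, ← hg, hsg, sig_tw]⟩
      have hval : ∀ (i : ℕ) (n' : O), ((f^[i] n').1 : A →* ℂˣ) = sg^[i] n'.1 := by
        intro i
        induction i with
        | zero => intro n'; rfl
        | succ i ih =>
          intro n'
          rw [Function.iterate_succ_apply', Function.iterate_succ_apply', ← ih]
      obtain ⟨⟨l, g, hg⟩, hl⟩ := exists_fixed (p := p) (j := j) f (fun n' => Subtype.ext (by
        rw [hval, hsg, sig_iterate_eq A σ h.stable hj])) (by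
        rw [natCard_orbit]
        exact h.pdvd _ (h.index_mem n) (h.index_ne_one hn))
      have hl' : sg l = l := congrArg Subtype.val hl
      have hl1 : l ≠ 1 := fun e => hn (by
        rw [← tw_one A n, ← mul_inv_cancel g, tw_mul, hg, e, tw_hom_one])
      set c : X ⧸ Ks := QuotientGroup.mk g⁻¹
      set s := c.out
      have hk : s⁻¹ * g⁻¹ ∈ Ks := QuotientGroup.eq.1 (Quotient.out_eq c)
      refine ⟨(⟨tw A (s⁻¹ * g⁻¹) l, fun e => hl1 (by
        rw [← tw_one A l, ← mul_inv_cancel (s⁻¹ * g⁻¹), tw_mul, e, tw_hom_one]),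
        hfixmove _ hk l hl1 hl'⟩, c), Subtype.ext ?_⟩
      show tw A s (tw A (s⁻¹ * g⁻¹) l) = n
      rw [tw_comm A h.comm, ← tw_mul, mul_inv_cancel_left, ← hg, ← tw_mul, mul_inv_cancel, tw_one]
  -- the fixed subgroup
  let F : Subgroup (A →* ℂˣ) :=
    { carrier := {l | sg l = l}
      one_mem' := MonoidHom.ext fun _ => rfl
      mul_mem' := fun {a b} ha hb => by
        show sg (a * b) = a * b
        rw [hsg, sig_hom_mul, ← hsg, show sg a = a from ha, show sg b = b from hb]
      inv_mem' := fun {a} ha => by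
        show sg a⁻¹ = a⁻¹
        refine MonoidHom.ext fun x => ?_
        have h1 := DFunLike.congr_fun (show sg a = a from ha) x
        show (a _)⁻¹ = (a x)⁻¹
        exact congrArg (·⁻¹) h1 }
  obtain ⟨k₀, -, hk₀⟩ := (Nat.dvd_prime_pow hr).1 (hLcard ▸ F.card_subgroup_dvd_card)
  haveI := Fintype.ofFinite (A →* ℂˣ)
  have hFx : Nat.card Fx = r ^ k₀ - 1 := by
    rw [← hk₀, Nat.card_congr (show Fx ≃ {l : F // l ≠ 1} from
      { toFun := fun l => ⟨⟨l.1, l.2.2⟩, fun e => l.2.1 (congrArg Subtype.val e)⟩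
        invFun := fun l => ⟨l.1.1, fun e => l.2 (Subtype.ext e), l.1.2⟩
        left_inv := fun _ => rfl
        right_inv := fun _ => rfl })]
    haveI := Fintype.ofFinite F
    rw [Nat.card_eq_fintype_card, Nat.card_eq_fintype_card, Fintype.card_subtype_compl,
      Fintype.card_subtype_eq]
  have hP : e * (r ^ k₀ - 1) = r ^ kV - 1 := by
    rw [← hFx, hedef, Subgroup.index_eq_card, mul_comm, ← Nat.card_prod,
      Nat.card_congr (Equiv.ofBijective _ hbij), ← hLcard, Nat.card_eq_fintype_card,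
      Nat.card_eq_fintype_card, Fintype.card_subtype_compl, Fintype.card_subtype_eq]
  have hkV1 : 2 ≤ r ^ kV := le_trans hr.two_le (Nat.le_self_pow (by omega) r)
  have hk0pos : 0 < k₀ := by
    refine Nat.pos_of_ne_zero fun e0 => ?_
    rw [e0, pow_zero, Nat.sub_self, mul_zero] at hP
    omega
  have hk0lt : k₀ < kV := by
    by_contra hge
    push Not at hge
    have h1 : r ^ kV ≤ r ^ k₀ := Nat.pow_le_pow_right hr.pos hge
    have h2 : 2 * (r ^ k₀ - 1) ≤ e * (r ^ k₀ - 1) := Nat.mul_le_mul_right _ he2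
    omega
  exact arith_false hr.two_le hk0pos hk0lt hm0 hmk hP heZ

end Cfsg.Agent.BlocksChars.NDAD
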