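import Cfsg.Agent.BlocksChars.NDAD.Reduce
import Cfsg.Agent.BlocksChars.TwoDegrees.General
import Cfsg.Agent.BlocksChars.ItoPSolvable
import Cfsg.Agent.S0033
import Cfsg.Agent.S0173
import Cfsg.Agent.S0178

/-!
# All nonlinear degrees of the kernel agree
-/

set_option autoImplicit false
set_option linter.style.haveILetI false
set_option linter.unusedSectionVars false

namespace Cfsg.Agent.BlocksChars.NDAD

open Cfsg.Agent.Characters Cfsg.Agent.CharTheory Cfsg.Agent.BlocksChars.Degrees
open scoped commutatorElement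

universe u

variable {X : Type u} [Group X] [Finite X]

/-- The data of the kernel. -/
structure KHyp (σ : X ≃* X) (p q : ℕ) (M : Subgroup X) [M.Normal] : Prop where
  fixes : Fixes σ
  anti : Anti X
  qdvd : ∀ a ∈ Cfsg.charDegrees X, a ≠ 1 → q ∣ a
  pdvd : ∀ a ∈ Cfsg.charDegrees X, a ≠ 1 → ¬ p ∣ a
  iter : ∃ j, ∀ x, σ^[p ^ j] x = x
  cop : (Nat.card M).Coprime q
  index : ∃ k, M.index = q ^ k
  moved : ∃ x, σ x * x⁻¹ ∉ M

namespace KHyp

variable {σ : X ≃* X} {p q : ℕ} [Fact p.Prime] [Fact q.Prime] {M : Subgroup X} [M.Normal]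
  (h : KHyp σ p q M)
include h

theorem not_dvd : ¬ q ∣ Nat.card M :=
  (Fact.out : q.Prime).coprime_iff_not_dvd.1 h.cop.symm

theorem index_coprime : (Nat.card M).Coprime M.index := by
  obtain ⟨k, hk⟩ := h.index
  exact hk ▸ h.cop.pow_right k

theorem stable (x : X) : σ x ∈ M ↔ x ∈ M := by
  have hmem : ∀ y, y ∈ M ↔ y ^ Nat.card M = 1 := by
    intro y
    refine ⟨fun hy => ?_, fun hy => ?_⟩
    · exact congrArg Subtype.val (pow_card_eq_one' (x := (⟨y, hy⟩ : M)))
    · refine (QuotientGroup.eq_one_iff y).1 (ExtendChar.eq_one_of_pow_coprime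
        (a := (QuotientGroup.mk' M y)) (m := Nat.card M) (n := M.index) ?_ ?_ h.index_coprime)
      · rw [← map_pow, hy, map_one]
      · exact (QuotientGroup.eq_one_iff _).2 (M.pow_index_mem y)
  rw [hmem, hmem, ← map_pow]
  exact map_eq_one_iff σ σ.injective

theorem exists_qpow : ∃ k, M.index = q ^ k ∧ ∀ x : X, x ^ q ^ k ∈ M := by
  obtain ⟨k, hk⟩ := h.index
  exact ⟨k, hk, fun x => hk ▸ M.pow_index_mem x⟩

/-- Extensions to inertia groups. -/
theorem exists_ext {θ : M → ℂ} (hθ : Cfsg.IsIrrCharacter M θ) (T : Subgroup X) (hMT : M ≤ T)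
    (hinv : ∀ t ∈ T, Clifford.conjBy M t θ = θ) :
    ∃ e : T → ℂ, Cfsg.IsIrrCharacter T e ∧ ∀ n : M, e ⟨n, hMT n.2⟩ = θ n := by
  classical
  haveI := Fintype.ofFinite M
  set ε := Subgroup.subgroupOfEquivOfLe hMT
  haveI := Fintype.ofFinite (M.subgroupOf T)
  have hθ' := (isIrrCharacter_comp_mulEquiv ε).2 hθ
  have hinv' : ∀ t : T, Clifford.conjBy (M.subgroupOf T) t (θ ∘ ε) = θ ∘ ε := fun t => by
    funext n
    have h1 := congrFun (hinv (t : X) t.2) (ε n)
    rw [Clifford.conjBy_apply] at h1 ⊢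
    refine Eq.trans (congrArg θ (Subtype.ext ?_)) h1
    simp [ε]
  have hidx : (M.subgroupOf T).index.Coprime (Nat.card (M.subgroupOf T)) := by
    rw [Nat.card_congr ε.toEquiv]
    exact h.index_coprime.symm.coprime_dvd_left (Dvd.intro _ (Subgroup.relIndex_mul_index hMT))
  set δ := Cfsg.detChar (θ ∘ ε)
  obtain ⟨hδc, hδ1⟩ := ExtendChar.detChar_isLinear (isCharacter_of_isIrr hθ')
  obtain ⟨f, hf⟩ := ExtendChar.exists_hom hδc hδ1
  obtain ⟨μ, hμ, -⟩ := ExtendChar.exists_linear_extension_coprime (M.subgroupOf T) ⟨hδc, hδ1⟩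
    (fun g n => by
      have h1 := congrFun (ExtendChar.detChar_comp
        (MulAut.conjNormal g : M.subgroupOf T ≃* M.subgroupOf T).toMonoidHom
        (isCharacter_of_isIrr hθ')) n
      rw [← Clifford.conjBy_eq_comp, hinv' g] at h1
      refine (congrArg δ (Subtype.ext ?_)).trans h1.symm
      simp)
    (hidx.coprime_dvd_right (orderOf_dvd_of_pow_eq_one (funext fun n => by
      rw [Pi.pow_apply, Pi.one_apply]
      show δ n ^ _ = 1
      rw [show δ n = (f n : ℂ) from (hf n).symm, ← Units.val_pow_eq_pow_val, ← map_pow,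
        pow_card_eq_one', map_one, Units.val_one])))
  obtain ⟨d, hd⟩ := char_one_nat (isCharacter_of_isIrr hθ')
  have hdd : d ∣ Nat.card (M.subgroupOf T) := by
    rw [show d = Cfsg.charDegree (θ ∘ ε) from Nat.cast_injective (R := ℂ)
      (hd.symm.trans (charDegree_cast ⟨_, hθ'⟩).symm)]
    exact charDegree_dvd_card ⟨_, hθ'⟩
  obtain ⟨e, he, hres⟩ := ExtendChar.exists_extension_det (M.subgroupOf T) hθ' hinv' hd
    (hidx.coprime_dvd_right hdd) μ hμ
  exact ⟨e, he, fun n => hres ⟨⟨n, hMT n.2⟩, n.2⟩⟩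

theorem le_inertia {θ : M → ℂ} (hθ : Cfsg.IsIrrCharacter M θ) : M ≤ inertia M θ :=
  fun a ha => funext fun v => char_isClassFunction (isCharacter_of_isIrr hθ) v ⟨a, ha⟩

/-- The degrees over a character of `M`. -/
theorem degree_mem {θ : M → ℂ} (hθ : Cfsg.IsIrrCharacter M θ)
    (β : Cfsg.IrrCharacter (inertia M θ ⧸ M.subgroupOf (inertia M θ))) :
    (inertia M θ).index * (Cfsg.charDegree θ *
      Cfsg.charDegree (β : inertia M θ ⧸ M.subgroupOf (inertia M θ) → ℂ)) ∈
      Cfsg.charDegrees X := by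
  haveI := Fintype.ofFinite M
  obtain ⟨e, he, heN⟩ := h.exists_ext hθ (inertia M θ) (h.le_inertia hθ) fun t ht => ht
  exact Palfy.degree_mem M hθ (inertia M θ) (fun g => Iff.rfl) (h.le_inertia hθ) e he heN β

theorem base_mem {θ : M → ℂ} (hθ : Cfsg.IsIrrCharacter M θ) :
    (inertia M θ).index * Cfsg.charDegree θ ∈ Cfsg.charDegrees X := by
  have h1 := h.degree_mem hθ ⟨_, isIrrCharacter_linear 1⟩
  rwa [Palfy.charDegree_linear, mul_one] at h1

/-- `M` abelian settles the degrees. -/
theorem equal_of_abelian (hM : ∀ a ∈ M, ∀ b ∈ M, a * b = b * a) :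
    ∀ a ∈ Cfsg.charDegrees X, ∀ b ∈ Cfsg.charDegrees X, a ≠ 1 → b ≠ 1 → a = b := by
  haveI := Fintype.ofFinite X
  obtain ⟨k, hk⟩ := h.index
  have hdvd : ∀ a ∈ Cfsg.charDegrees X, a ∣ q ^ k := by
    rintro _ ⟨χ, rfl⟩
    obtain ⟨d, hd, hdvd⟩ := Ito.degree_dvd_index_abelian M hM χ.2
    rw [show Cfsg.charDegree (χ : X → ℂ) = d from
      Nat.cast_injective (R := ℂ) ((charDegree_cast χ).trans hd), ← hk]
    exact hdvd
  exact fun a ha b hb ha1 hb1 =>
    h.anti.eq_of_prime_pow Fact.out ha hb ha1 hb1 (hdvd a ha) (hdvd b hb)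

/-- A degree dividing a multiple of a nonlinear degree of `M` by a power of `q`. -/
theorem linear_of_index (θ : M → ℂ) (hθ : Cfsg.IsIrrCharacter M θ) {c : ℕ}
    (hc : c ∈ Cfsg.charDegrees X) (hc1 : c ≠ 1) (hci : c ∣ (inertia M θ).index) :
    Cfsg.charDegree θ = 1 := by
  haveI := Fintype.ofFinite M
  have e := h.anti c hc _ (h.base_mem hθ) hc1 (hci.trans (dvd_mul_right _ _))
  obtain ⟨k, hk, -⟩ := h.exists_qpow
  refine Nat.eq_one_of_dvd_coprimes h.index_coprime (charDegree_dvd_card ⟨θ, hθ⟩) ?_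
  refine ((dvd_mul_left _ _).trans (dvd_of_eq e.symm)).trans (hci.trans ?_)
  exact Subgroup.index_dvd_of_le (h.le_inertia hθ)

/-- A nonabelian quotient makes `M` abelian. -/
theorem comm_of_not_le (hna : ¬ commutator X ≤ M) : ∀ a ∈ M, ∀ b ∈ M, a * b = b * a := by
  classical
  by_contra hM
  haveI := Fintype.ofFinite X
  haveI := Fintype.ofFinite M
  obtain ⟨θ, hθ1⟩ : ∃ θ : Cfsg.IrrCharacter M, Cfsg.charDegree (θ : M → ℂ) ≠ 1 := by
    by_contra! hall
    exact hM fun a ha b hb =>
      congrArg Subtype.val ((ItoPSolvable.comm_of_linear hall).is_comm.comm ⟨a, ha⟩ ⟨b, hb⟩)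
  refine hθ1 ?_
  set T := inertia M (θ : M → ℂ) with hT
  have hMT : M ≤ T := h.le_inertia θ.2
  have hlin : ∀ β : Cfsg.IrrCharacter (T ⧸ M.subgroupOf T),
      (β : T ⧸ M.subgroupOf T → ℂ) 1 = 1 := by
    intro β
    have hpos : 0 < T.index * Cfsg.charDegree (θ : M → ℂ) :=
      Nat.mul_pos (Nat.pos_of_ne_zero Subgroup.index_ne_zero_of_finite) (charDegree_pos θ)
    have e := h.anti _ (h.base_mem θ.2) _ (h.degree_mem θ.2 β)
      (fun e => hθ1 (Nat.dvd_one.1 (e ▸ dvd_mul_left _ _))) ⟨_, (mul_assoc _ _ _).symm⟩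
    have e' : T.index * Cfsg.charDegree (θ : M → ℂ) = T.index * Cfsg.charDegree (θ : M → ℂ) *
        Cfsg.charDegree (β : T ⧸ M.subgroupOf T → ℂ) := e.trans (mul_assoc _ _ _).symm
    rw [← charDegree_cast β, (Nat.mul_eq_left hpos.ne').1 e'.symm, Nat.cast_one]
  set π := QuotientGroup.mk' M
  have hsurj := QuotientGroup.mk'_surjective M
  have hab : ∀ a ∈ T.map π, ∀ b ∈ T.map π, a * b = b * a := by
    rintro _ ⟨a, ha, rfl⟩ _ ⟨b, hb, rfl⟩
    have h1 := comm_of_forall_degree_one hlin (QuotientGroup.mk' _ (⟨a, ha⟩ : T))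
      (QuotientGroup.mk' _ ⟨b, hb⟩)
    rw [← map_mul, ← map_mul, QuotientGroup.mk'_apply, QuotientGroup.mk'_apply,
      QuotientGroup.eq] at h1
    rw [← map_mul, ← map_mul, QuotientGroup.mk'_apply, QuotientGroup.mk'_apply, QuotientGroup.eq]
    exact h1
  obtain ⟨ρc, hρ1⟩ : ∃ χ : Cfsg.IrrCharacter (X ⧸ M), Cfsg.charDegree (χ : X ⧸ M → ℂ) ≠ 1 := by
    by_contra! hall
    have hc := ItoPSolvable.comm_of_linear hall
    refine hna ?_
    rw [commutator_def, Subgroup.commutator_le]
    intro a _ b _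
    refine (QuotientGroup.eq_one_iff _).1 ?_
    show π ⁅a, b⁆ = 1
    rw [map_commutatorElement, commutatorElement_eq_one_iff_mul_comm]
    exact hc.is_comm.comm _ _
  set c := Cfsg.charDegree (ρc : X ⧸ M → ℂ) with hc
  have hidx : (T.map π).index = T.index :=
    Subgroup.index_map_eq _ hsurj (by rw [QuotientGroup.ker_mk']; exact hMT)
  have hle : c ≤ T.index := by
    obtain ⟨n, ρ, hρ, hρc⟩ := ρc.2
    haveI := hρ
    have h1 := Cfsg.Agent.S0178.result ρ (T.map π) hab
    rw [hidx] at h1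
    refine le_trans (le_of_eq (Nat.cast_injective (R := ℂ) ?_)) h1
    rw [hc, charDegree_cast ρc, ← ρ.char_one]
    exact (congrFun hρc 1).symm
  obtain ⟨k, hk, -⟩ := h.exists_qpow
  obtain ⟨i, -, hi⟩ := (Nat.dvd_prime_pow Fact.out).1 (show c ∣ q ^ k by
    rw [← hk, Subgroup.index_eq_card, hc]
    haveI := Fintype.ofFinite (X ⧸ M)
    exact charDegree_dvd_card ρc)
  obtain ⟨i', -, hi'⟩ := (Nat.dvd_prime_pow Fact.out).1 (hk ▸ Subgroup.index_dvd_of_le hMT)
  refine h.linear_of_index _ θ.2 (ThreeDegrees.mem_of_quotient M ⟨ρc, rfl⟩) hρ1 ?_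
  rw [← hT, ← hc, hi, hi']
  refine pow_dvd_pow q ((Nat.pow_le_pow_iff_right (Fact.out : q.Prime).one_lt).1 ?_)
  rw [← hi, ← hi']
  exact hle

/-- Elements moved only inside `M`. -/
theorem mem_of_fixes (hGM : commutator X ≤ M) {θ : M → ℂ} (hθ : Cfsg.IsIrrCharacter M θ)
    (hnl : Cfsg.charDegree θ ≠ 1 ∨ inertia M θ ≠ ⊤) {x : X} (hx : x ∈ inertia M θ) :
    σ x * x⁻¹ ∈ M := by
  haveI := Fintype.ofFinite M
  obtain ⟨k, -, hk⟩ := h.exists_qpow
  refine sigma_div_mem σ M hGM h.stable Fact.out h.not_dvd hθ (fun χ hχ hover =>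
    h.fixes χ hχ fun e1 => ?_) hx (hk x)
  obtain ⟨h1, h2⟩ := of_over_linear M hχ hθ hover e1
  exact hnl.elim (fun hh => hh h1) fun hh => hh (eq_top_iff.2 fun g _ => h2 g)

end KHyp

/-- Congruent elements act alike. -/
theorem tw_congr {A : Subgroup X} [A.Normal] {g g' : X}
    (he : QuotientGroup.mk' A g = QuotientGroup.mk' A g') (v : A →* ℂˣ) :
    tw A g v = tw A g' v := by
  rw [QuotientGroup.mk'_apply, QuotientGroup.mk'_apply, QuotientGroup.eq] at he
  rw [show g' = g * (g⁻¹ * g') by group, tw_mul, tw_of_mem A he]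

namespace KHyp

variable {σ : X ≃* X} {p q : ℕ} [Fact p.Prime] [Fact q.Prime] {M : Subgroup X} [M.Normal]
  (h : KHyp σ p q M)
include h

/-- A power of a difference leaving the fixed set, with `q`-th power in `T`. -/
theorem exists_power (hpq : p ≠ q) (hGM : commutator X ≤ M) (T : Subgroup X) (hMT : M ≤ T)
    (hTF : ∀ t ∈ T, σ t * t⁻¹ ∈ M) {y : X} (hy : σ y * y⁻¹ ∉ M) :
    ∃ n : ℕ, σ ((σ y * y⁻¹) ^ n) * ((σ y * y⁻¹) ^ n)⁻¹ ∉ M ∧
      ((σ y * y⁻¹) ^ n) ^ q ∈ T := by
  classical
  set π := QuotientGroup.mk' M with hπ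
  have hc : ∀ a b : X, Commute (π a) (π b) := fun a b => by
    rw [← commutatorElement_eq_one_iff_commute, ← map_commutatorElement]
    exact (QuotientGroup.eq_one_iff _).2
      (hGM (Subgroup.commutator_mem_commutator (Subgroup.mem_top a) (Subgroup.mem_top b)))
  have hσπ : ∀ a b : X, π a = π b → π (σ a) = π (σ b) := fun a b e => by
    rw [hπ, QuotientGroup.mk'_apply, QuotientGroup.mk'_apply, QuotientGroup.eq] at e ⊢
    rw [← map_inv, ← map_mul, h.stable]
    exact e
  set w := σ y * y⁻¹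
  obtain ⟨k, -, hk⟩ := h.exists_qpow
  obtain ⟨j, hj⟩ := h.iter
  have hkey : ∀ n : ℕ, σ (w ^ n) * (w ^ n)⁻¹ ∈ M → w ^ n ∈ M := by
    intro n hn
    set z := y ^ n
    set v := w ^ n
    have hvfix : π (σ v) = π v := by
      have h1 : π (σ v * v⁻¹) = 1 := (QuotientGroup.eq_one_iff _).2 hn
      rwa [map_mul, map_inv, mul_inv_eq_one] at h1
    have hz : π (σ z) = π v * π z := by
      show π (σ (y ^ n)) = π (w ^ n) * π (y ^ n)
      rw [map_pow, map_pow, map_pow, map_pow, ← (hc w y).mul_pow, ← map_mul,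
        inv_mul_cancel_right]
    have hit : ∀ i, π (σ^[i] z) = π v ^ i * π z := by
      intro i
      induction i with
      | zero => simp
      | succ i ih =>
        rw [Function.iterate_succ_apply',
          hσπ _ (v ^ i * z) (by rw [ih, map_mul π (v ^ i) z, map_pow π v i]),
          map_mul σ (v ^ i) z, map_mul π (σ (v ^ i)) (σ z), map_pow σ v i, map_pow π (σ v) i,
          hvfix, hz, ← mul_assoc, pow_succ]
    have h1 := hit (p ^ j)
    rw [hj, right_eq_mul] at h1
    have h2 : π v ^ q ^ k = 1 := by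
      rw [← map_pow]
      exact (QuotientGroup.eq_one_iff _).2 (hk v)
    exact (QuotientGroup.eq_one_iff v).1 (ExtendChar.eq_one_of_pow_coprime h1 h2
      (Nat.Coprime.pow _ _ ((Nat.coprime_primes Fact.out Fact.out).2 hpq)))
  have hwT : w ∉ T := fun hw => hy (by
    have := hkey 1 (by rw [pow_one]; exact hTF w hw)
    rwa [pow_one] at this)
  have hex : ∃ t, w ^ q ^ t ∈ T := ⟨k, hMT (hk w)⟩
  set t := Nat.find hex with ht
  obtain ⟨t', ht'⟩ : ∃ t', t = t' + 1 := Nat.exists_eq_succ_of_ne_zero (n := t) fun e => hwT (by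
    have := Nat.find_spec hex
    rwa [← ht, e, pow_zero, pow_one] at this)
  refine ⟨q ^ t', fun hF => ?_, ?_⟩
  · exact Nat.find_min hex (show t' < t by omega) (hMT (hkey _ hF))
  · rw [← pow_mul, ← pow_succ, ← ht']
    exact Nat.find_spec hex

/-- A moved linear character of `M` forces `M` abelian. -/
theorem comm_of_moved (hpq : p ≠ q) (hGM : commutator X ≤ M) (l : M →* ℂˣ) (hl : st M l ≠ ⊤) :
    ∀ a ∈ M, ∀ b ∈ M, a * b = b * a := by
  classical
  haveI := Fintype.ofFinite M
  haveI := Fintype.ofFinite X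
  set T := st M l with hT
  have hidxmem : ∀ v : M →* ℂˣ, (st M v).index ∈ Cfsg.charDegrees X := fun v => by
    obtain ⟨e, he⟩ := TwoDegrees.exists_extension (le_st M v) h.index_coprime v
      fun t ht a => (mem_st_iff M).1 ht a
    exact NDAD.index_mem M v e he
  have hfn : ∀ v : M →* ℂˣ, inertia M (fun a => (v a : ℂ)) = st M v := fun v =>
    Subgroup.ext fun g => (mem_st_conjBy M).symm
  have hTF : ∀ t ∈ T, σ t * t⁻¹ ∈ M := fun t ht =>
    h.mem_of_fixes hGM (isIrrCharacter_linear l) (Or.inr (by rw [hfn]; exact hl))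
      (by rw [hfn]; exact ht)
  obtain ⟨k, hk, -⟩ := h.exists_qpow
  have hone : ∀ v : M →* ℂˣ, st M v ≠ ⊤ → (st M v).index = T.index := fun v hv =>
    h.anti.eq_of_prime_pow Fact.out (hidxmem v) (hidxmem l)
      (fun e => hv (Subgroup.index_eq_one.1 e)) (fun e => hl (Subgroup.index_eq_one.1 e))
      (hk ▸ Subgroup.index_dvd_of_le (le_st M v)) (hk ▸ Subgroup.index_dvd_of_le (le_st M l))
  -- the fixed set is inside `T`
  have hFT : ∀ x, σ x * x⁻¹ ∈ M → x ∈ T := by
    by_contra! hno
    obtain ⟨x, hxF, hxT⟩ := hno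
    set π := QuotientGroup.mk' M with hπ
    have hc : ∀ a b : X, Commute (π a) (π b) := fun a b => by
      rw [← commutatorElement_eq_one_iff_commute, ← map_commutatorElement]
      exact (QuotientGroup.eq_one_iff _).2
        (hGM (Subgroup.commutator_mem_commutator (Subgroup.mem_top a) (Subgroup.mem_top b)))
    let F : Subgroup X := MonoidHom.eqLocus (π.comp σ.toMonoidHom) π
    have hmemF : ∀ a, a ∈ F ↔ σ a * a⁻¹ ∈ M := fun a => by
      rw [← QuotientGroup.eq_one_iff (N := M)]
      show π (σ a) = π a ↔ π (σ a * a⁻¹) = 1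
      rw [map_mul, map_inv, mul_inv_eq_one]
    obtain ⟨k', -, hk'⟩ := h.exists_qpow
    have hexz : ∃ t, x ^ q ^ t ∈ T := ⟨k', le_st M l (hk' x)⟩
    obtain ⟨tz, htz⟩ : ∃ t', Nat.find hexz = t' + 1 :=
      Nat.exists_eq_succ_of_ne_zero fun e => hxT (by
        have := Nat.find_spec hexz
        rwa [e, pow_zero, pow_one] at this)
    set z := x ^ q ^ tz with hz
    have hzT : z ∉ T := Nat.find_min hexz (by omega)
    have hzq : z ^ q ∈ T := by
      rw [hz, ← pow_mul, ← pow_succ, ← htz]
      exact Nat.find_spec hexz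
    have hzF : z ∈ F := F.pow_mem ((hmemF x).2 hxF) _
    obtain ⟨y, hy⟩ := h.moved
    obtain ⟨n, hnF, hnq⟩ := h.exists_power hpq hGM T (le_st M l) hTF hy
    set u := (σ y * y⁻¹) ^ n with hu
    have huF : u ∉ F := fun e => hnF ((hmemF u).1 e)
    have hTF' : T ≤ F := fun t ht => (hmemF t).2 (hTF t ht)
    have huT : u ∉ T := fun e => huF (hTF' e)
    have hq : q.Prime := Fact.out
    have hzu : ∀ b < q, z * u ^ b ∉ T := by
      intro b hb e
      rcases Nat.eq_zero_or_pos b with rfl | hb0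
      · rw [pow_zero, mul_one] at e; exact hzT e
      · have h1 : u ^ b ∈ F := by
          have := F.mul_mem (F.inv_mem hzF) (hTF' e)
          rwa [inv_mul_cancel_left] at this
        have hcop : b.Coprime q :=
          ((hq.coprime_iff_not_dvd).2 (Nat.not_dvd_of_pos_of_lt hb0 hb)).symm
        refine huF ?_
        have h2 : u ^ (1 : ℤ) = (u ^ b) ^ Nat.gcdA b q * (u ^ q) ^ Nat.gcdB b q := by
          rw [← zpow_natCast, ← zpow_natCast u q, ← zpow_mul, ← zpow_mul, ← zpow_add,
            ← Nat.gcd_eq_gcd_ab, hcop.gcd_eq_one, Nat.cast_one]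
        rw [zpow_one] at h2
        rw [h2]
        exact F.mul_mem (F.zpow_mem h1 _) (F.zpow_mem (hTF' hnq) _)
    -- invariance
    let Inv : Subgroup (M →* ℂˣ) :=
      { carrier := {v | ∀ g, tw M g v = v}
        one_mem' := fun g => tw_hom_one M g
        mul_mem' := fun {a b} ha hb g => by rw [tw_hom_mul, ha g, hb g]
        inv_mem' := fun {a} ha g => MonoidHom.ext fun c => by
          have h1 := DFunLike.congr_fun (ha g) c
          show (a _)⁻¹ = (a c)⁻¹
          exact congrArg (·⁻¹) h1 }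
    have hbig : ∀ v : M →* ℂˣ, T ≤ st M v → ∀ g ∉ T, g ∈ st M v → v ∈ Inv := by
      intro v hTv g hgT hgv g'
      refine (mem_st M).1 ?_
      by_cases hv : st M v = ⊤
      · rw [hv]; exact Subgroup.mem_top g'
      · have h1 := hone v hv
        have h2 : T = st M v := Subgroup.eq_of_le_of_card_ge hTv (le_of_eq (by
          have h3 := T.index_mul_card.trans (st M v).index_mul_card.symm
          rw [h1] at h3
          exact (Nat.eq_of_mul_eq_mul_left
            (Nat.pos_of_ne_zero Subgroup.index_ne_zero_of_finite) h3).symm))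
        exact absurd (h2 ▸ hgv) hgT
    let twH : X → (M →* ℂˣ) →* (M →* ℂˣ) := fun g => MonoidHom.mk' (tw M g) (tw_hom_mul M g)
    have htwH : ∀ g v, twH g v = tw M g v := fun _ _ => rfl
    let Nm : X → (M →* ℂˣ) → (M →* ℂˣ) := fun g v => ∏ i ∈ Finset.range q, tw M (g ^ i) v
    have hNm : ∀ g, g ^ q ∈ T → g ∉ T → Nm g l ∈ Inv := by
      intro g hgq hgT
      refine hbig _ (fun t ht => ?_) g hgT ?_
      · rw [mem_st, ← htwH, map_prod]
        refine Finset.prod_congr rfl fun i _ => ?_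
        rw [htwH, tw_comm M hGM, show tw M t l = l from ht]
      · rw [mem_st, ← htwH, map_prod]
        have h0 : tw M (g ^ q) l = tw M (g ^ 0) l := by
          rw [pow_zero, tw_one, show tw M (g ^ q) l = l from hgq]
        have h1 := Finset.prod_range_succ' (fun i => tw M (g ^ i) l) q
        rw [Finset.prod_range_succ, h0] at h1
        refine Eq.trans (Finset.prod_congr rfl fun i _ => ?_) (mul_right_cancel h1).symm
        rw [htwH, ← tw_mul, ← pow_succ]
    have hNu : Nm u l ∈ Inv := hNm u hnq huT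
    have hP : ∏ b ∈ Finset.range q, Nm (z * u ^ b) l ∈ Inv := by
      refine Inv.prod_mem fun b hb => hNm _ ?_ (hzu b (Finset.mem_range.1 hb))
      have e : π ((z * u ^ b) ^ q) = π (z ^ q * (u ^ q) ^ b) := by
        rw [map_pow π (z * u ^ b) q, map_mul π z (u ^ b), (hc z (u ^ b)).mul_pow,
          map_mul π (z ^ q) ((u ^ q) ^ b), map_pow π z q, ← map_pow π (u ^ b) q, ← pow_mul,
          ← pow_mul, mul_comm b q, hu, ← pow_mul, ← pow_mul]
      rw [mem_st, tw_congr e]
      exact (mem_st M).1 (T.mul_mem hzq (T.pow_mem hnq b))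
    have hsplit : ∏ b ∈ Finset.range q, Nm (z * u ^ b) l = l ^ q * Nm u l ^ (q - 1) := by
      show ∏ b ∈ Finset.range q, ∏ i ∈ Finset.range q, tw M ((z * u ^ b) ^ i) l = _
      rw [Finset.prod_comm]
      have hterm : ∀ i ∈ Finset.range q, i ≠ 0 →
          ∏ b ∈ Finset.range q, tw M ((z * u ^ b) ^ i) l = Nm u l := by
        intro i hi hi0
        have hiq : i.Coprime q :=
          ((hq.coprime_iff_not_dvd).2
            (Nat.not_dvd_of_pos_of_lt (Nat.pos_of_ne_zero hi0) (Finset.mem_range.1 hi))).symm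
        have e : ∀ b, tw M ((z * u ^ b) ^ i) l = tw M (u ^ (b * i % q)) (tw M (z ^ i) l) := by
          intro b
          have e1 : π ((z * u ^ b) ^ i) = π (z ^ i * u ^ (b * i)) := by
            rw [map_pow π (z * u ^ b) i, map_mul π z (u ^ b), (hc z (u ^ b)).mul_pow,
              map_mul π (z ^ i) (u ^ (b * i)), map_pow π z i, ← map_pow π (u ^ b) i, ← pow_mul]
          rw [tw_congr e1, tw_mul]
          conv_lhs => rw [← Nat.div_add_mod (b * i) q, pow_add, pow_mul, tw_mul]
          have h4 : (u ^ q) ^ (b * i / q) ∈ st M (tw M (z ^ i) l) := by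
            rw [st_tw M hGM]
            exact T.pow_mem hnq _
          rw [show tw M ((u ^ q) ^ (b * i / q)) (tw M (z ^ i) l) = tw M (z ^ i) l from h4]
        rw [Finset.prod_congr rfl fun b _ => e b]
        have hinj : Set.InjOn (fun b => b * i % q) (Finset.range q : Set ℕ) := by
          intro a ha b hb hab
          have h5 : a ≡ b [MOD q] := Nat.ModEq.cancel_right_of_coprime hiq.symm hab
          exact h5.eq_of_lt_of_lt (Finset.mem_range.1 (Finset.mem_coe.1 ha))
            (Finset.mem_range.1 (Finset.mem_coe.1 hb))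
        rw [← Finset.prod_image (f := fun m => tw M (u ^ m) (tw M (z ^ i) l))
          (g := fun b => b * i % q) hinj]
        rw [Finset.eq_of_subset_of_card_le (t := Finset.range q)
          (fun m hm => by
            obtain ⟨b, -, rfl⟩ := Finset.mem_image.1 hm
            exact Finset.mem_range.2 (Nat.mod_lt _ hq.pos))
          (le_of_eq (Finset.card_image_of_injOn hinj).symm)]
        refine Eq.trans ?_ (hNu (z ^ i))
        show _ = twH (z ^ i) (Nm u l)
        rw [map_prod]
        exact Finset.prod_congr rfl fun m _ => tw_comm M hGM _ _ _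
      rw [← Finset.mul_prod_erase _ _ (Finset.mem_range.2 hq.pos),
        Finset.prod_congr rfl fun i hi =>
          hterm i (Finset.mem_of_mem_erase hi) (Finset.ne_of_mem_erase hi),
        Finset.prod_const, Finset.card_erase_of_mem (Finset.mem_range.2 hq.pos), Finset.card_range]
      congr 1
      simp only [pow_zero, tw_one, Finset.prod_const, Finset.card_range]
    have hlq : l ^ q ∈ Inv := by
      have := Inv.mul_mem hP (Inv.inv_mem (Inv.pow_mem hNu (q - 1)))
      rw [hsplit] at this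
      convert this using 1
      exact MonoidHom.ext fun a => (mul_inv_cancel_right _ _).symm
    refine hl (eq_top_iff.2 fun g _ => (mem_st_iff M).2 fun a => ?_)
    have h1 : l (MulAut.conjNormal g a) ^ q = l a ^ q := DFunLike.congr_fun (hlq g) a
    have h2 : ∀ c : M, l c ^ Nat.card M = 1 := fun c => by rw [← map_pow, pow_card_eq_one', map_one]
    rw [← mul_inv_eq_one]
    refine ExtendChar.eq_one_of_pow_coprime (m := q) (n := Nat.card M) ?_ ?_ h.cop.symm
    · rw [mul_pow, inv_pow, h1, mul_inv_cancel]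
    · rw [mul_pow, inv_pow, h2, h2, inv_one, mul_one]
  by_contra hM
  obtain ⟨θ, hθ1⟩ : ∃ θ : Cfsg.IrrCharacter M, Cfsg.charDegree (θ : M → ℂ) ≠ 1 := by
    by_contra! hall
    exact hM fun a ha b hb =>
      congrArg Subtype.val ((ItoPSolvable.comm_of_linear hall).is_comm.comm ⟨a, ha⟩ ⟨b, hb⟩)
  exact hθ1 (h.linear_of_index _ θ.2 (hidxmem l) (fun e => hl (Subgroup.index_eq_one.1 e))
    (Subgroup.index_dvd_of_le fun t ht => hFT t (h.mem_of_fixes hGM θ.2 (Or.inl hθ1) ht)))

/-- All nonlinear degrees agree. -/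
theorem equal (hpq : p ≠ q) :
    ∀ a ∈ Cfsg.charDegrees X, ∀ b ∈ Cfsg.charDegrees X, a ≠ 1 → b ≠ 1 → a = b := by
  classical
  by_cases hM : ∀ a ∈ M, ∀ b ∈ M, a * b = b * a
  · exact h.equal_of_abelian hM
  have hGM : commutator X ≤ M := by
    by_contra hna
    exact hM (h.comm_of_not_le hna)
  have hfix : ∀ l : M →* ℂˣ, ∀ g, tw M g l = l := fun l g => by
    by_contra hne
    exact hM (h.comm_of_moved hpq hGM l fun e => hne ((mem_st M).1 (e ▸ Subgroup.mem_top g)))
  set A := ⁅M, M⁆ with hA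
  haveI : A.Normal := Subgroup.commutator_normal M M
  have hAM : A ≤ M := Subgroup.commutator_le_self M
  have hA1 : A ≠ ⊥ := fun e => hM fun a ha b hb =>
    (Subgroup.mem_centralizer_iff.1
      (Subgroup.commutator_eq_bot_iff_le_centralizer.1 e ha) b hb).symm
  have hGA : commutator X ≤ A := by
    rw [commutator_def, hA]
    exact ThreeDegrees.commutator_le_derived M ⊤ h.index_coprime
      (fun l k _ a => (mem_st_iff M).1 (hfix l k) a) (commutator_def X ▸ hGM)
  obtain ⟨y, hy⟩ := h.moved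
  obtain ⟨n, hnF, hnq⟩ := h.exists_power hpq hGM M le_rfl
    (fun t ht => M.mul_mem ((h.stable t).2 ht) (M.inv_mem ht)) hy
  set n' := n * Nat.card M
  set u := (σ y * y⁻¹) ^ n' with hu
  have huq : u ^ q = 1 := by
    rw [hu, ← pow_mul, show n * Nat.card M * q = n * q * Nat.card M by ring, pow_mul, pow_mul]
    exact congrArg Subtype.val (pow_card_eq_one' (x := (⟨_, hnq⟩ : M)))
  have huF : σ u * u⁻¹ ∉ M := by
    intro hF
    refine hnF ?_
    set π := QuotientGroup.mk' M
    let F : Subgroup X := MonoidHom.eqLocus (π.comp σ.toMonoidHom) π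
    have hmemF : ∀ a, a ∈ F ↔ σ a * a⁻¹ ∈ M := fun a => by
      rw [← QuotientGroup.eq_one_iff (N := M)]
      show π (σ a) = π a ↔ π (σ a * a⁻¹) = 1
      rw [map_mul, map_inv, mul_inv_eq_one]
    set v := (σ y * y⁻¹) ^ n
    refine (hmemF v).1 ?_
    have h1 : v ^ Nat.card M ∈ F := by rw [← pow_mul]; exact (hmemF u).2 hF
    have h2 : v ^ q ∈ F := (hmemF _).2 (M.mul_mem ((h.stable _).2 hnq) (M.inv_mem hnq))
    have e : v ^ (1 : ℤ) = (v ^ Nat.card M) ^ Nat.gcdA (Nat.card M) q *
        (v ^ q) ^ Nat.gcdB (Nat.card M) q := by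
      rw [← zpow_natCast, ← zpow_natCast v q, ← zpow_mul, ← zpow_mul, ← zpow_add,
        ← Nat.gcd_eq_gcd_ab, h.cop.gcd_eq_one, Nat.cast_one]
    rw [zpow_one] at e
    rw [e]
    exact F.mul_mem (F.zpow_mem h1 _) (F.zpow_mem h2 _)
  haveI := Fintype.ofFinite M
  -- only the identity of `A` commutes with `u`
  have hfpf : ∀ a ∈ A, u * a = a * u → a = 1 := by
    intro a ha hau
    by_contra ha1
    set α : M ≃* M := MulAut.conjNormal u with hα
    set D := commutator M
    set πD := QuotientGroup.mk' D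
    have hαD : ∀ x, πD (α x) = πD x := fun x => by
      rw [QuotientGroup.mk'_apply, QuotientGroup.mk'_apply, eq_comm, QuotientGroup.eq]
      refine ThreeDegrees.mem_commutator_of_linear _ fun l => ?_
      rw [map_mul, map_inv, hα, (mem_st_iff M).1 (hfix l u), inv_mul_cancel]
    have hiter : ∀ x : M, α^[q ^ 1] x = x := fun x => by
      rw [hα, iterate_conjNormal, pow_one, huq, map_one, MulAut.one_apply]
    have hDq : ¬ q ∣ Nat.card D := fun hd =>
      h.not_dvd (hd.trans (Subgroup.card_subgroup_dvd_card D))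
    have hpt : ∀ c : M ⧸ D, ∃ x : M, πD x = c ∧ α x = x := by
      intro c
      let f : {x : M // πD x = c} → {x : M // πD x = c} := fun x =>
        ⟨α x.1, (hαD x.1).trans x.2⟩
      have hval : ∀ (i : ℕ) (x : {x : M // πD x = c}), (f^[i] x).1 = α^[i] x.1 := by
        intro i
        induction i with
        | zero => intro x; rfl
        | succ i ih =>
          intro x
          rw [Function.iterate_succ_apply', Function.iterate_succ_apply', ← ih]
      obtain ⟨x₀, rfl⟩ := QuotientGroup.mk'_surjective D c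
      have hcard : Nat.card {x : M // πD x = πD x₀} = Nat.card D := Nat.card_congr
        { toFun := fun x => ⟨x₀⁻¹ * x.1, QuotientGroup.eq.1 x.2.symm⟩
          invFun := fun d => ⟨x₀ * d.1, by
            rw [map_mul, show πD (d : M) = 1 from (QuotientGroup.eq_one_iff _).2 d.2, mul_one]⟩
          left_inv := fun x => Subtype.ext (mul_inv_cancel_left _ _)
          right_inv := fun d => Subtype.ext (inv_mul_cancel_left _ _) }
      obtain ⟨⟨x, hx⟩, hxf⟩ := exists_fixed (p := q) (j := 1) f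
        (fun x => Subtype.ext (by rw [hval, hiter])) (by rw [hcard]; exact hDq)
      exact ⟨x, hx, congrArg Subtype.val hxf⟩
    choose r hr using hpt
    let P := {C : ConjClasses M // ConjClasses.map α.toMonoidHom C = C}
    have hfixmk : ∀ x : M, α x = x →
        ConjClasses.map α.toMonoidHom (ConjClasses.mk x) = ConjClasses.mk x := fun x hx => by
      show ConjClasses.mk (α x) = _
      rw [hx]
    let a' : M := ⟨a, hAM ha⟩
    have haα : α a' = a' := Subtype.ext (by
      rw [hα, MulAut.conjNormal_apply]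
      exact mul_inv_eq_iff_eq_mul.2 hau)
    let g : Option (M ⧸ D) → P := fun o => match o with
      | none => ⟨ConjClasses.mk a', hfixmk _ haα⟩
      | some c => if c = 1 then ⟨ConjClasses.mk 1, hfixmk _ (map_one α)⟩
          else ⟨ConjClasses.mk (r c), hfixmk _ (hr c).2⟩
    let toQ : ConjClasses M → ConjClasses (M ⧸ D) := ConjClasses.map πD
    have haD : πD a' = 1 := (QuotientGroup.eq_one_iff _).2 (by
      have h1 : a ∈ (commutator M).map M.subtype := by rw [map_commutator_eq]; exact ha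
      obtain ⟨b, hb, hba⟩ := h1
      rwa [show b = a' from Subtype.ext hba] at hb)
    have hg : ∀ o, toQ (g o).1 = ConjClasses.mk (o.getD 1) := by
      rintro (_ | c)
      · show ConjClasses.mk (πD a') = _
        rw [haD]; rfl
      · simp only [g]
        split_ifs with hc
        · show ConjClasses.mk (πD 1) = _
          rw [map_one, hc]; rfl
        · show ConjClasses.mk (πD (r c)) = _
          rw [(hr c).1]; rfl
    have hmk : ∀ x y : M ⧸ D, ConjClasses.mk x = ConjClasses.mk y → x = y := fun x y e => by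
      obtain ⟨m, hm⟩ := isConj_iff.1 (ConjClasses.mk_eq_mk_iff_isConj.1 e)
      have hcm : m * x = x * m := by
        obtain ⟨m', rfl⟩ := QuotientGroup.mk'_surjective D m
        obtain ⟨x', rfl⟩ := QuotientGroup.mk'_surjective D x
        rw [← commutatorElement_eq_one_iff_mul_comm, ← map_commutatorElement]
        exact (QuotientGroup.eq_one_iff _).2
          (Subgroup.commutator_mem_commutator (Subgroup.mem_top _) (Subgroup.mem_top _))
      rw [← hm, hcm, mul_inv_cancel_right]
    have ha'1 : a' ≠ 1 := fun e => ha1 (congrArg Subtype.val e)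
    have hginj : Function.Injective g := by
      intro o o' e
      have h1 := hmk _ _ ((hg o).symm.trans ((congrArg (fun z => toQ z.1) e).trans (hg o')))
      rcases o with _ | c <;> rcases o' with _ | c'
      · rfl
      · exfalso
        have hc' : c' = 1 := h1.symm
        have e' := congrArg Subtype.val e
        simp only [g, hc', if_true] at e'
        exact ha'1 (isConj_one_left.1 (ConjClasses.mk_eq_mk_iff_isConj.1 e'))
      · exfalso
        have hc : c = 1 := h1
        have e' := congrArg Subtype.val e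
        simp only [g, hc, if_true] at e'
        exact ha'1 (isConj_one_left.1 (ConjClasses.mk_eq_mk_iff_isConj.1 e'.symm))
      · exact congrArg some h1
    haveI : Finite P := Subtype.finite
    have hge := Nat.card_le_card_of_injective g hginj
    haveI := Fintype.ofFinite (M ⧸ D)
    rw [Nat.card_eq_fintype_card (α := Option (M ⧸ D)), Fintype.card_option,
      ← Nat.card_eq_fintype_card, ← Subgroup.index_eq_card, Cfsg.Agent.S0173.result α] at hge
    have hle : Nat.card {χ : Cfsg.IrrCharacter M // (χ : M → ℂ) ∘ α = (χ : M → ℂ)} ≤ D.index := by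
      rw [← card_degree_one (G := M)]
      refine Nat.card_le_card_of_injective (fun χ => ⟨χ.1, ?_⟩)
        fun a b e => Subtype.ext
          (congrArg (fun z : {χ : Cfsg.IrrCharacter M // (χ : M → ℂ) 1 = 1} => z.1) e)
      rw [← charDegree_cast]
      by_contra hne
      refine huF (h.mem_of_fixes hGM χ.1.2 (Or.inl fun e1 => hne (by rw [e1, Nat.cast_one])) ?_)
      show Clifford.conjBy M u _ = _
      rw [Clifford.conjBy_eq_comp]
      exact χ.2
    exact absurd (hge.trans hle) (by omega)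
  have hu1 : MulAut.conjNormal (H := A) u ≠ 1 := fun e => by
    obtain ⟨a, ha⟩ := Subgroup.ne_bot_iff_exists_ne_one.1 hA1
    refine ha (Subtype.ext (hfpf a a.2 (mul_inv_eq_iff_eq_mul.1 ?_)))
    have h1 := DFunLike.congr_fun e a
    have h2 := congrArg Subtype.val h1
    rwa [MulAut.conjNormal_apply] at h2
  have hnil : Group.IsNilpotent A := Cfsg.Agent.S0033.result (MulAut.conjNormal u : A ≃* A)
    (fun a ha => by
      have h2 := congrArg Subtype.val ha
      change ((MulAut.conjNormal u a : A) : X) = _ at h2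
      rw [MulAut.conjNormal_apply] at h2
      exact Subtype.ext (hfpf a a.2 (mul_inv_eq_iff_eq_mul.1 h2))) q Fact.out
    (orderOf_eq_prime (by rw [← map_pow, huq, map_one]) hu1)
  have hAst : ∀ x, σ x ∈ A ↔ x ∈ A := stable_of_map_eq σ (by
    rw [hA, Subgroup.map_commutator, map_eq_of_stable σ h.stable])
  refine AHyp.equal (σ := σ) (p := p) (A := A) (u := u)
    ⟨h.fixes, h.anti, h.pdvd, h.iter, hGA, hAst, hfpf, y ^ n', ?_⟩ hnil
  set πA := QuotientGroup.mk' A
  have hcA : Commute (πA (σ y)) (πA y⁻¹) := by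
    rw [← commutatorElement_eq_one_iff_commute, ← map_commutatorElement]
    exact (QuotientGroup.eq_one_iff _).2
      (hGA (Subgroup.commutator_mem_commutator (Subgroup.mem_top _) (Subgroup.mem_top _)))
  refine (QuotientGroup.eq_one_iff _).1 ?_
  show πA _ = 1
  rw [map_mul, map_mul, map_inv, map_inv, hu, map_pow, map_pow, map_pow, map_pow, map_mul, hcA.mul_pow,
    map_inv, inv_pow, mul_inv_cancel]

end KHyp

end Cfsg.Agent.BlocksChars.NDAD
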