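import Cfsg.Agent.BlocksChars.NDAD.Basic
import Cfsg.Agent.BlocksChars.Palfy.Degrees

/-!
# Conjugates of linear characters of a normal subgroup with abelian quotient
-/

set_option autoImplicit false
set_option linter.style.haveILetI false
set_option linter.unusedSectionVars false

namespace Cfsg.Agent.BlocksChars.NDAD

open Cfsg.Agent.Characters Cfsg.Agent.CharTheory Cfsg.Agent.BlocksChars.Degrees
open scoped commutatorElement

universe u

variable {X : Type u} [Group X] [Finite X] (A : Subgroup X) [hA : A.Normal]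

/-- The conjugate of a linear character. -/
def tw (g : X) (l : A →* ℂˣ) : A →* ℂˣ := l.comp (MulAut.conjNormal g : A ≃* A).toMonoidHom

theorem tw_apply (g : X) (l : A →* ℂˣ) (a : A) : tw A g l a = l (MulAut.conjNormal g a) := rfl

theorem tw_one (l : A →* ℂˣ) : tw A 1 l = l := MonoidHom.ext fun a => by
  rw [tw_apply, map_one, MulAut.one_apply]

theorem tw_mul (g h : X) (l : A →* ℂˣ) : tw A (g * h) l = tw A h (tw A g l) :=
  MonoidHom.ext fun a => by rw [tw_apply, tw_apply, tw_apply, map_mul, MulAut.mul_apply]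

theorem tw_hom_mul (g : X) (l m : A →* ℂˣ) : tw A g (l * m) = tw A g l * tw A g m :=
  MonoidHom.ext fun _ => rfl

theorem tw_hom_one (g : X) : tw A g (1 : A →* ℂˣ) = 1 := MonoidHom.ext fun _ => rfl

/-- The stabiliser of a linear character. -/
def st (l : A →* ℂˣ) : Subgroup X where
  carrier := {g | tw A g l = l}
  one_mem' := tw_one A l
  mul_mem' {a b} ha hb := by
    show tw A (a * b) l = l
    rw [tw_mul, show tw A a l = l from ha]
    exact hb
  inv_mem' {a} ha := by
    show tw A a⁻¹ l = l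
    conv_lhs => rw [← show tw A a l = l from ha]
    rw [← tw_mul, mul_inv_cancel, tw_one]

theorem mem_st {l : A →* ℂˣ} {g : X} : g ∈ st A l ↔ tw A g l = l := Iff.rfl

theorem mem_st_iff {l : A →* ℂˣ} {g : X} :
    g ∈ st A l ↔ ∀ a : A, l (MulAut.conjNormal g a) = l a := by
  rw [mem_st, DFunLike.ext_iff]
  rfl

theorem mem_st_conjBy {l : A →* ℂˣ} {g : X} :
    g ∈ st A l ↔ Clifford.conjBy A g (fun a => (l a : ℂ)) = fun a => (l a : ℂ) := by
  rw [mem_st_iff, funext_iff]
  refine forall_congr' fun a => ?_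
  rw [Clifford.conjBy_apply, Units.val_inj]
  exact Iff.of_eq (congrArg (fun b => l b = l a) (Subtype.ext (by simp)))

theorem le_st (l : A →* ℂˣ) : A ≤ st A l := fun a ha => mem_st_iff A |>.2 fun v => by
  have h : MulAut.conjNormal a v = (⟨a, ha⟩ : A) * v * (⟨a, ha⟩ : A)⁻¹ := Subtype.ext (by simp)
  rw [h, map_mul, map_mul, map_inv, mul_comm (l ⟨a, ha⟩) (l v), mul_assoc, mul_inv_cancel, mul_one]

theorem tw_of_mem {a : X} (ha : a ∈ A) (l : A →* ℂˣ) : tw A a l = l := le_st A l ha

theorem tw_comm (hGA : commutator X ≤ A) (g h : X) (l : A →* ℂˣ) :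
    tw A g (tw A h l) = tw A h (tw A g l) := by
  rw [← tw_mul, ← tw_mul, show h * g = ⁅h, g⁆ * (g * h) by rw [commutatorElement_def]; group,
    tw_mul, tw_of_mem A (hGA (Subgroup.commutator_mem_commutator (Subgroup.mem_top _)
      (Subgroup.mem_top _))) l]

theorem st_le_st_tw (hGA : commutator X ≤ A) (g : X) (l : A →* ℂˣ) :
    st A l ≤ st A (tw A g l) := fun h hh => by
  rw [mem_st, tw_comm A hGA, show tw A h l = l from hh]

theorem st_tw (hGA : commutator X ≤ A) (g : X) (l : A →* ℂˣ) : st A (tw A g l) = st A l := by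
  refine le_antisymm ?_ (st_le_st_tw A hGA g l)
  have h := st_le_st_tw A hGA g⁻¹ (tw A g l)
  rwa [← tw_mul, mul_inv_cancel, tw_one] at h

/-- Conjugation as an action. -/
@[implicit_reducible] def act : MulAction X (A →* ℂˣ) where
  smul g l := tw A g⁻¹ l
  one_smul l := show tw A 1⁻¹ l = l by rw [inv_one, tw_one]
  mul_smul g h l := show tw A (g * h)⁻¹ l = tw A g⁻¹ (tw A h⁻¹ l) by rw [mul_inv_rev, tw_mul]

theorem stabilizer_act (l : A →* ℂˣ) :
    @MulAction.stabilizer X (A →* ℂˣ) _ (act A) l = st A l := by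
  ext g
  show tw A g⁻¹ l = l ↔ g ∈ st A l
  rw [← mem_st, Subgroup.inv_mem_iff]

/-- The orbit of a linear character. -/
theorem natCard_orbit (l : A →* ℂˣ) :
    Nat.card {m : A →* ℂˣ // ∃ g, tw A g l = m} = (st A l).index := by
  letI := act A
  rw [← stabilizer_act, MulAction.index_stabilizer, ← Nat.card_coe_set_eq]
  refine Nat.card_congr (Equiv.subtypeEquivRight fun m => ?_)
  constructor
  · rintro ⟨g, hg⟩
    refine ⟨g⁻¹, ?_⟩
    show tw A g⁻¹⁻¹ l = m
    rwa [inv_inv]
  · rintro ⟨g, hg⟩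
    exact ⟨g⁻¹, hg⟩

/-- The index of the stabiliser of an extendible linear character is a degree. -/
theorem index_mem (l : A →* ℂˣ) (e : st A l →* ℂˣ) (he : ∀ a : A, e ⟨a, le_st A l a.2⟩ = l a) :
    (st A l).index ∈ Cfsg.charDegrees X :=
  Palfy.index_mem_linear A l (st A l) (fun _ => mem_st_iff A) (le_st A l) e he

variable (σ : X ≃* X) (hσA : ∀ x, σ x ∈ A ↔ x ∈ A)

/-- The automorphism on the subgroup. -/
def res : A ≃* A where
  toFun a := ⟨σ a, (hσA _).2 a.2⟩
  invFun a := ⟨σ.symm a, (hσA _).1 (by rw [σ.apply_symm_apply]; exact a.2)⟩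
  left_inv a := Subtype.ext (σ.symm_apply_apply _)
  right_inv a := Subtype.ext (σ.apply_symm_apply _)
  map_mul' a b := Subtype.ext (map_mul σ _ _)

theorem res_coe (a : A) : (res A σ hσA a : X) = σ a := rfl

/-- The automorphism on linear characters. -/
def sig (l : A →* ℂˣ) : A →* ℂˣ := l.comp (res A σ hσA).toMonoidHom

theorem tw_sig (h : X) (l : A →* ℂˣ) :
    tw A h (sig A σ hσA l) = sig A σ hσA (tw A (σ h) l) :=
  MonoidHom.ext fun a => congrArg l (Subtype.ext (by simp [res]))

theorem sig_tw (g : X) (l : A →* ℂˣ) :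
    sig A σ hσA (tw A g l) = tw A (σ.symm g) (sig A σ hσA l) := by
  rw [tw_sig, σ.apply_symm_apply]

theorem sig_hom_mul (l m : A →* ℂˣ) : sig A σ hσA (l * m) = sig A σ hσA l * sig A σ hσA m :=
  MonoidHom.ext fun _ => rfl

theorem sig_injective : Function.Injective (sig A σ hσA) := fun l m h =>
  MonoidHom.ext fun a => by
    have := DFunLike.congr_fun h ((res A σ hσA).symm a)
    simpa [sig] using this

theorem sig_iterate (n : ℕ) (l : A →* ℂˣ) (a : A) :
    (sig A σ hσA)^[n] l a = l ((res A σ hσA)^[n] a) := by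
  induction n generalizing l with
  | zero => rfl
  | succ n ih => rw [Function.iterate_succ_apply, ih, Function.iterate_succ_apply']; rfl

theorem sig_iterate_eq {n : ℕ} (hn : ∀ x, σ^[n] x = x) (l : A →* ℂˣ) :
    (sig A σ hσA)^[n] l = l := by
  refine MonoidHom.ext fun a => ?_
  rw [sig_iterate]
  refine congrArg l (Subtype.ext ?_)
  have h : ∀ k, (((res A σ hσA)^[k] a : A) : X) = σ^[k] (a : X) := by
    intro k
    induction k with
    | zero => rfl
    | succ k ih => rw [Function.iterate_succ_apply', Function.iterate_succ_apply', res_coe, ih]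
  rw [h, hn]

include hσA in
/-- The image of a moved linear character lies in its orbit. -/
theorem exists_tw_sig (hfix : Fixes σ) (l : A →* ℂˣ) (hl : st A l ≠ ⊤) :
    ∃ g, tw A g l = sig A σ hσA l := by
  classical
  haveI := Fintype.ofFinite A
  haveI := Fintype.ofFinite X
  obtain ⟨χ, hχ⟩ := DerivedLength.exists_over_constituent A ⟨_, isIrrCharacter_linear l⟩
  have hd : Cfsg.charDegree (χ : X → ℂ) ≠ 1 := fun h => hl (by
    rw [eq_top_iff]
    exact fun g _ => (mem_st_conjBy A).2
      ((of_over_linear A χ.2 (isIrrCharacter_linear l) hχ h).2 g))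
  have h2 : Cfsg.classInner (fun a : A => (χ : X → ℂ) a)
      (fun a => (sig A σ hσA l a : ℂ)) ≠ 0 := by
    rw [show (fun a : A => (χ : X → ℂ) a) = (fun a : A => (χ : X → ℂ) a) ∘ res A σ hσA from
      funext fun a => ((hfix _ χ.2 hd (a : X)).symm : (χ : X → ℂ) a = (χ : X → ℂ) (σ a)),
      show (fun a => (sig A σ hσA l a : ℂ)) = (fun a => (l a : ℂ)) ∘ res A σ hσA from rfl,
      Basics.classInner_comp_equiv]
    exact hχ
  obtain ⟨g, hg⟩ := Clifford.exists_conjBy_eq A χ.2 (isIrrCharacter_linear l)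
    (isIrrCharacter_linear (sig A σ hσA l)) hχ h2
  refine ⟨g, MonoidHom.ext fun a => Units.ext ?_⟩
  refine Eq.trans ?_ (congrFun hg a)
  rw [Clifford.conjBy_apply, tw_apply]
  exact congrArg (fun b => (l b : ℂ)) (Subtype.ext (by simp))

end Cfsg.Agent.BlocksChars.NDAD
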