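import Cfsg.Agent.BlocksChars.ThreeDegrees.Main
import Cfsg.Agent.BlocksChars.NDAD.Kernel

/-!
# No divisibility among degrees, disconnected degree graph: three degrees
-/

set_option autoImplicit false
set_option linter.style.haveILetI false
set_option linter.unusedSectionVars false

namespace Cfsg.Agent.BlocksChars.NDAD

open Cfsg.Agent.Characters Cfsg.Agent.CharTheory Cfsg.Agent.BlocksChars.Degrees
open scoped commutatorElement ComplexConjugate

universe u

variable {G : Type u} [Group G] [Finite G]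

/-- Two primes dividing one degree are connected. -/
theorem reachable_of_dvd {d : ℕ} (hd : d ∈ Cfsg.charDegrees G) (a b : Cfsg.degreePrimes G)
    (ha : (a : ℕ) ∣ d) (hb : (b : ℕ) ∣ d) :
    ((Cfsg.degreeGraph G).induce (Cfsg.degreePrimes G)).Reachable a b := by
  rcases eq_or_ne a b with rfl | hne
  · exact SimpleGraph.Reachable.refl _
  refine SimpleGraph.Adj.reachable ?_
  have hne' : (a : ℕ) ≠ b := fun e => hne (Subtype.ext e)
  exact ⟨hne', a.2.1, b.2.1, d, hd,
    ((Nat.coprime_primes a.2.1 b.2.1).2 hne').mul_dvd_of_dvd_of_dvd ha hb⟩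

/-- A vertex reaching all others leaves one component. -/
theorem ne_two_of_hub (r : Cfsg.degreePrimes G)
    (h : ∀ a, ((Cfsg.degreeGraph G).induce (Cfsg.degreePrimes G)).Reachable a r) :
    Nat.card ((Cfsg.degreeGraph G).induce (Cfsg.degreePrimes G)).ConnectedComponent ≠ 2 := by
  haveI : Subsingleton
      ((Cfsg.degreeGraph G).induce (Cfsg.degreePrimes G)).ConnectedComponent :=
    ⟨fun c c' => SimpleGraph.ConnectedComponent.ind₂
      (fun a b => SimpleGraph.ConnectedComponent.eq.2 ((h a).trans (h b).symm)) c c'⟩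
  haveI : Nonempty ((Cfsg.degreeGraph G).induce (Cfsg.degreePrimes G)).ConnectedComponent :=
    ⟨SimpleGraph.connectedComponentMk _ r⟩
  rw [Nat.card_unique]
  norm_num

theorem ne_two_of_empty (h : ∀ d ∈ Cfsg.charDegrees G, d = 1) :
    Nat.card ((Cfsg.degreeGraph G).induce (Cfsg.degreePrimes G)).ConnectedComponent ≠ 2 := by
  haveI : IsEmpty (Cfsg.degreePrimes G) := ⟨fun a => by
    obtain ⟨ha, d, hd, had⟩ := a.2
    exact ha.not_dvd_one (h d hd ▸ had)⟩
  haveI : IsEmpty ((Cfsg.degreeGraph G).induce (Cfsg.degreePrimes G)).ConnectedComponent :=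
    ⟨fun c => SimpleGraph.ConnectedComponent.ind (fun a => isEmptyElim a) c⟩
  rw [Nat.card_of_isEmpty]
  norm_num

/-- The theorem. -/
theorem main [Group.IsSolvable G]
    (hnd : ∀ a ∈ Cfsg.charDegrees G, ∀ b ∈ Cfsg.charDegrees G, 1 < a → a < b → ¬ a ∣ b)
    (htwo : Nat.card ((Cfsg.degreeGraph G).induce (Cfsg.degreePrimes G)).ConnectedComponent = 2) :
    Nat.card ↥(Cfsg.charDegrees G) = 3 := by
  classical
  haveI := Fintype.ofFinite G
  have hanti : ∀ a ∈ Cfsg.charDegrees G, ∀ b ∈ Cfsg.charDegrees G, a ≠ 1 → a ∣ b → a = b := by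
    intro a ha b hb ha1 hab
    by_contra hne
    exact hnd a ha b hb (by have := ThreeDegrees.pos_of_mem ha; omega)
      (lt_of_le_of_ne (Nat.le_of_dvd (ThreeDegrees.pos_of_mem hb) hab) hne) hab
  -- `G` is nonabelian
  have hcomm : commutator G ≠ ⊥ := fun e => ne_two_of_empty (fun d hd => by
    obtain ⟨χ, rfl⟩ := hd
    refine Nat.cast_injective (R := ℂ) ?_
    rw [charDegree_cast, Nat.cast_one]
    refine irr_degree_one_of_comm (fun x y => ?_) χ.2
    rw [← commutatorElement_eq_one_iff_mul_comm]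
    exact Subgroup.mem_bot.1
      (e ▸ Subgroup.commutator_mem_commutator (Subgroup.mem_top x) (Subgroup.mem_top y))) htwo
  have hnle : ¬ commutator G ≤ ⁅commutator G, commutator G⁆ := fun h => by
    obtain ⟨n, hn⟩ := (Group.isSolvable_def G).1 inferInstance
    have hall : ∀ k, commutator G ≤ derivedSeries G k := by
      intro k
      induction k with
      | zero => exact le_top
      | succ k ih =>
        rw [derivedSeries_succ]
        exact h.trans (Subgroup.commutator_mono ih ih)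
    exact hcomm (le_bot_iff.1 (hn ▸ hall n))
  haveI : (⁅commutator G, commutator G⁆).Normal := Subgroup.commutator_normal _ _
  obtain ⟨K, ⟨hKn, hKle, hKne⟩, hmax⟩ := (Set.toFinite
    {K : Subgroup G | K.Normal ∧ ⁅commutator G, commutator G⁆ ≤ K ∧ ¬ commutator G ≤ K}).exists_maximal
      ⟨_, inferInstance, le_rfl, hnle⟩
  haveI := hKn
  set π := QuotientGroup.mk' K with hπ
  have hmap : commutator (G ⧸ K) = (commutator G).map π := by
    rw [commutator_def, commutator_def, Subgroup.map_commutator,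
      Subgroup.map_top_of_surjective _ (QuotientGroup.mk'_surjective K)]
  have hQ : BoundedDegree.MinQ (G ⧸ K) := by
    refine ⟨?_, fun M hM hMne => ?_⟩
    · rw [hmap, Ne, Subgroup.map_eq_bot_iff, QuotientGroup.ker_mk']
      exact hKne
    · have hKM : K ≤ M.comap π := fun x hx => by
        show π x ∈ M
        rw [show π x = 1 from (QuotientGroup.eq_one_iff x).2 hx]
        exact one_mem _
      by_contra hno
      have hno' : ¬ commutator G ≤ M.comap π := fun h => hno (by
        rw [hmap, Subgroup.map_le_iff_le_comap]; exact h)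
      have h1 := hmax ⟨hM.comap π, hKle.trans hKM, hno'⟩ hKM
      refine hMne ?_
      rw [← Subgroup.map_comap_eq_self_of_surjective (QuotientGroup.mk'_surjective K) M,
        Subgroup.map_eq_bot_iff, QuotientGroup.ker_mk']
      exact h1
  have hab : ∀ a ∈ commutator (G ⧸ K), ∀ b ∈ commutator (G ⧸ K), a * b = b * a := by
    rw [hmap]
    rintro _ ⟨a, ha, rfl⟩ _ ⟨b, hb, rfl⟩
    rw [← commutatorElement_eq_one_iff_mul_comm, ← map_commutatorElement]
    exact (QuotientGroup.eq_one_iff _).2 (hKle (Subgroup.commutator_mem_commutator ha hb))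
  set D := commutator (G ⧸ K) with hDdef
  haveI : D.Normal := by rw [hDdef]; infer_instance
  set q := (Nat.card D).minFac with hqdef
  have hq : q.Prime := Nat.minFac_prime fun e => hQ.ne (Subgroup.card_eq_one.1 e)
  haveI := Fact.mk hq
  obtain ⟨c, hc⟩ := exists_prime_orderOf_dvd_card' q (Nat.minFac_dvd (Nat.card D))
  -- `D` has exponent `q`
  have hexp : ∀ d ∈ D, d ^ q = 1 := by
    let E : Subgroup (G ⧸ K) :=
      { carrier := {d | d ∈ D ∧ d ^ q = 1}
        one_mem' := ⟨D.one_mem, one_pow q⟩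
        mul_mem' := fun {a b} ha hb => ⟨D.mul_mem ha.1 hb.1, by
          rw [(show Commute a b from hab a ha.1 b hb.1).mul_pow, ha.2, hb.2, one_mul]⟩
        inv_mem' := fun {a} ha => ⟨D.inv_mem ha.1, by rw [inv_pow, ha.2, inv_one]⟩ }
    haveI : E.Normal := ⟨fun x hx g => ⟨(inferInstance : D.Normal).conj_mem x hx.1 g, by
      rw [conj_pow, hx.2, mul_one, mul_inv_cancel]⟩⟩
    have hne : E ≠ ⊥ := fun e => by
      have h1 : (c : G ⧸ K) ∈ E := ⟨c.2, by rw [← hc, ← Subgroup.coe_pow, pow_orderOf_eq_one]; simp⟩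
      rw [e, Subgroup.mem_bot, OneMemClass.coe_eq_one] at h1
      rw [h1, orderOf_one] at hc
      exact hq.ne_one hc.symm
    exact fun d hd => (hQ.min E inferInstance hne hd).2
  by_cases hcen : D ≤ Subgroup.center (G ⧸ K)
  · -- central
    exfalso
    obtain ⟨ρ, r, hρ, hρ1, hr2, hidx2, habs⟩ := BoundedDegree.central_case hQ hcen
    have hρdeg : Cfsg.charDegree ρ = r :=
      ThreeDegrees.charDegree_eq (isCharacter_of_isIrr hρ) hρ1
    have hrD := ThreeDegrees.mem_of_quotient K (d := r) ⟨⟨ρ, hρ⟩, hρdeg⟩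
    have hpow : IsPGroup q ((G ⧸ K) ⧸ Subgroup.center (G ⧸ K)) := by
      intro z
      obtain ⟨x, rfl⟩ := QuotientGroup.mk'_surjective (Subgroup.center (G ⧸ K)) z
      refine ⟨1, ?_⟩
      rw [pow_one, ← map_pow]
      refine (QuotientGroup.eq_one_iff _).2 (Subgroup.mem_center_iff.2 fun y => ?_)
      set d := ⁅y, x⁆ with hd
      have hdD : d ∈ D :=
        Subgroup.commutator_mem_commutator (Subgroup.mem_top y) (Subgroup.mem_top x)
      have hdx : Commute d x := Subgroup.mem_center_iff.1 (hcen hdD) x |>.symm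
      have h1 : y * x * y⁻¹ = d * x := by rw [hd, commutatorElement_def]; group
      have h2 : y * x ^ q * y⁻¹ = x ^ q := by
        rw [← conj_pow, h1, hdx.mul_pow, hexp d hdD, one_mul]
      rwa [mul_inv_eq_iff_eq_mul] at h2
    obtain ⟨t, ht⟩ := IsPGroup.iff_card.1 hpow
    rw [← Subgroup.index_eq_card] at ht
    have hqr : q ∣ r := by
      have h1 : r ∣ q ^ t := ht ▸ hidx2 ▸ dvd_pow_self r two_ne_zero
      obtain ⟨j, -, hj⟩ := (Nat.dvd_prime_pow hq).1 h1
      rcases Nat.eq_zero_or_pos j with rfl | hj0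
      · rw [pow_zero] at hj; omega
      · exact hj ▸ dvd_pow_self q hj0.ne'
    have hall : ∀ n ∈ Cfsg.charDegrees G, n ≠ 1 → q ∣ n := by
      rintro n ⟨χ, hχ⟩ hn1
      by_contra hqn
      set M := (Subgroup.center (G ⧸ K)).comap (QuotientGroup.mk' K) with hM
      haveI : M.Normal := Subgroup.Normal.comap inferInstance _
      haveI := Fintype.ofFinite M
      have hcop : (Cfsg.charDegree (χ : G → ℂ)).Coprime M.index := by
        rw [hM, Subgroup.index_comap_of_surjective _ (QuotientGroup.mk'_surjective K), ht, hχ]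
        exact ((hq.coprime_iff_not_dvd).2 hqn).symm.pow_right t
      have hirr := BoundedDegree.isIrr_mul_scalar M χ.2
        (ThreeDegrees.restrict_irr_of_coprime M χ hcop) (η := ρ ∘ QuotientGroup.mk' K)
        (isIrrCharacter_comp_surjective _ (QuotientGroup.mk'_surjective K) hρ)
        fun m g => by
          simp only [Function.comp_apply, map_mul]
          exact habs _ m.2 _
      have hdeg : Cfsg.charDegree (ρ ∘ QuotientGroup.mk' K * (χ : G → ℂ)) = r * n :=
        ThreeDegrees.charDegree_eq (isCharacter_of_isIrr hirr) (by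
          rw [Pi.mul_apply, Function.comp_apply, map_one, hρ1, ← charDegree_cast, hχ,
            Nat.cast_mul])
      have h1 := hanti r hrD (r * n) ⟨⟨_, hirr⟩, hdeg⟩ (by omega) (dvd_mul_right r n)
      exact hn1 ((Nat.mul_eq_left (by omega)).1 h1.symm)
    refine ne_two_of_hub ⟨q, hq, r, hrD, hqr⟩ (fun a => ?_) htwo
    obtain ⟨ha, d, hd, had⟩ := a.2
    exact reachable_of_dvd hd a _ had (hall d hd fun e => ha.not_dvd_one (e ▸ had))
  -- abelian, not central
  obtain ⟨hi2, hmoved, -⟩ := BoundedDegree.abelian_case hQ hcen hab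
  set N := D.comap π with hN
  haveI : N.Normal := Subgroup.Normal.comap inferInstance _
  set f := N.index with hf
  have hNi : f = D.index :=
    Subgroup.index_comap_of_surjective _ (QuotientGroup.mk'_surjective K)
  have hf2 : 2 ≤ f := by
    have h0 : f ≠ 0 := Subgroup.index_ne_zero_of_finite
    have h1 : f ≠ 1 := fun e => by
      have hD : D = ⊤ := Subgroup.index_eq_one.1 (hNi.symm.trans e)
      refine hcen fun x _ => Subgroup.mem_center_iff.2 fun y => ?_
      exact hab y (hD ▸ Subgroup.mem_top y) x (hD ▸ Subgroup.mem_top x)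
    omega
  have hGN : commutator G ≤ N := by
    rw [hN, ← Subgroup.map_le_iff_le_comap, hmap]
  have hKN : K ≤ N := fun x hx => by
    show π x ∈ D
    rw [show π x = 1 from (QuotientGroup.eq_one_iff x).2 hx]
    exact one_mem _
  letI : CommGroup D :=
    { (inferInstance : Group D) with mul_comm := fun a b => Subtype.ext (hab a a.2 b b.2) }
  obtain ⟨a, hDcard⟩ : ∃ a, Nat.card D = q ^ a := IsPGroup.iff_card.1 fun d =>
    ⟨1, Subtype.ext (by rw [pow_one, Subgroup.coe_pow, hexp d d.2]; rfl)⟩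
  have hqf : ¬ q ∣ f := by
    rw [hNi, Subgroup.index_eq_card]
    intro hqi
    obtain ⟨z, hz⟩ := exists_prime_orderOf_dvd_card' q hqi
    obtain ⟨t, rfl⟩ := QuotientGroup.mk'_surjective D z
    have htD : t ∉ D := fun h => by
      rw [show QuotientGroup.mk' D t = 1 from (QuotientGroup.eq_one_iff t).2 h, orderOf_one] at hz
      exact hq.ne_one hz.symm
    have htq : t ^ q ∈ D := by
      refine (QuotientGroup.eq_one_iff _).1 ?_
      show QuotientGroup.mk' D (t ^ q) = 1
      rw [map_pow, ← hz, pow_orderOf_eq_one]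
    refine ThreeDegrees.not_dvd_of_fixedPointFree (q := q) (MulAut.conjNormal t : D ≃* D)
      (fun x => ?_) (fun x hx => ?_) (hc ▸ orderOf_dvd_natCard c)
    · rw [iterate_conjNormal]
      refine Subtype.ext ?_
      rw [MulAut.conjNormal_apply, hab _ htq x x.2, mul_inv_cancel_right]
    · refine Subtype.ext (hmoved t htD x x.2 ?_)
      have e := congrArg Subtype.val hx
      rw [MulAut.conjNormal_apply] at e
      exact mul_inv_eq_iff_eq_mul.1 e
  haveI := Fintype.ofFinite N
  set K' := K.subgroupOf N with hK'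
  haveI := Fintype.ofFinite K'
  let πN : N →* D := π.subgroupComap D
  obtain ⟨d₀, hd₀⟩ := Subgroup.ne_bot_iff_exists_ne_one.1 hQ.ne
  obtain ⟨lam, hlam⟩ := CommGroup.exists_apply_ne_one_of_hasEnoughRootsOfUnity D ℂ hd₀
  set μ₀ : N →* ℂˣ := lam.comp πN with hμ₀def
  have hπK : ∀ k ∈ K', πN k = 1 := fun k hk => Subtype.ext ((QuotientGroup.eq_one_iff (k : G)).2 hk)
  obtain ⟨v₀, hv₀⟩ := π.subgroupComap_surjective_of_surjective D (QuotientGroup.mk'_surjective K) d₀
  have hμ₀1 : μ₀ ≠ 1 := fun e => hlam (by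
    have h1 := DFunLike.congr_fun e v₀
    rw [hμ₀def, MonoidHom.comp_apply, MonoidHom.one_apply] at h1
    rwa [show πN v₀ = d₀ from hv₀] at h1)
  have htwist : ∀ y ∈ Cfsg.charDegrees N, y.Coprime (Nat.card D) →
      f * y ∈ Cfsg.charDegrees G := by
    rintro y ⟨ψ, rfl⟩ hy
    have hcop' : (Cfsg.charDegree (ψ : N → ℂ)).Coprime K'.index := by
      refine hy.coprime_dvd_right (dvd_of_eq ?_)
      have h1 : K.relIndex N * N.index = K.index := Subgroup.relIndex_mul_index hKN
      rw [← hf, hNi] at h1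
      have h2 : Nat.card D * D.index = K.index := by
        rw [D.card_mul_index, ← Subgroup.index_eq_card]
      exact Nat.eq_of_mul_eq_mul_right (Nat.pos_of_ne_zero Subgroup.index_ne_zero_of_finite)
        (h1.trans h2.symm)
    refine ThreeDegrees.index_mul_mem N hGN K' μ₀ (fun k hk => by
      rw [hμ₀def, MonoidHom.comp_apply, hπK k hk, map_one]) hμ₀1 (fun g k hk => ?_)
      (fun μ hμ t ht hfix => ?_) ψ (ThreeDegrees.restrict_irr_of_coprime K' ψ hcop')
    · rw [hK', Subgroup.mem_subgroupOf, MulAut.conjNormal_apply]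
      exact hKn.conj_mem _ hk g
    · have htD : π t ∉ D := ht
      let e : D → D := fun d => MulAut.conjNormal (π t) d * d⁻¹
      have he : Function.Injective e := fun a b h => by
        have h' : MulAut.conjNormal (π t) (a * b⁻¹) = a * b⁻¹ := by
          rw [map_mul, map_inv, ← div_eq_mul_inv, ← div_eq_mul_inv, div_eq_div_iff_div_eq_div,
            div_eq_mul_inv, div_eq_mul_inv]
          exact h
        have h'' := congrArg Subtype.val h'
        rw [MulAut.conjNormal_apply] at h''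
        exact mul_inv_eq_one.1 (Subtype.ext (hmoved _ htD _ (a * b⁻¹).2
          (mul_inv_eq_iff_eq_mul.1 h'')))
      refine MonoidHom.ext fun w => ?_
      obtain ⟨d, hd⟩ := Finite.injective_iff_surjective.1 he (πN w)
      obtain ⟨v, hv⟩ := π.subgroupComap_surjective_of_surjective D
        (QuotientGroup.mk'_surjective K) d
      set w' : N := MulAut.conjNormal t v * v⁻¹ with hw'
      have h1 : πN w' = πN w := by
        rw [← hd, hw', map_mul, map_inv, show πN v = d from hv]
        refine congrArg (· * d⁻¹) (Subtype.ext ?_)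
        show π (MulAut.conjNormal t v : N) = _
        rw [MulAut.conjNormal_apply, MulAut.conjNormal_apply, map_mul, map_mul, map_inv,
          show π (v : G) = (d : G ⧸ K) from congrArg Subtype.val hv]
      have h2 : w * w'⁻¹ ∈ K' := by
        have h3 : πN (w * w'⁻¹) = 1 := by rw [map_mul, map_inv, h1, mul_inv_cancel]
        rw [hK', Subgroup.mem_subgroupOf]
        exact (QuotientGroup.eq_one_iff _).1 (congrArg Subtype.val h3)
      have h4 : μ w' = 1 := by rw [hw', map_mul, map_inv, hfix, mul_inv_cancel]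
      have h5 := hμ _ h2
      rw [map_mul, map_inv, h4, inv_one, mul_one] at h5
      exact h5
  have hfD : f ∈ Cfsg.charDegrees G := by
    have := htwist 1 ThreeDegrees.one_mem_degrees (Nat.coprime_one_left _)
    rwa [mul_one] at this
  -- nonlinear degrees of `N`
  have hqN : ∀ y ∈ Cfsg.charDegrees N, y ≠ 1 → q ∣ y := by
    intro y hy hy1
    by_contra hqy
    have h1 := hanti f hfD (f * y)
      (htwist y hy (hDcard ▸ ((hq.coprime_iff_not_dvd).2 hqy).symm.pow_right a)) (by omega)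
      (dvd_mul_right f y)
    exact hy1 ((Nat.mul_eq_left (by omega)).1 h1.symm)
  have hover : ∀ d ∈ Cfsg.charDegrees G, ∃ y ∈ Cfsg.charDegrees N, y ∣ d ∧ d ∣ y * f := by
    rintro _ ⟨χ, rfl⟩
    obtain ⟨θ, hθ, hov⟩ := IsaacsOdd.exists_constituent N χ.2
    obtain ⟨h1, h2⟩ := Cfsg.Agent.S0887.result N (χ : G → ℂ) χ.2 θ hθ hov _ _
      (charDegree_cast χ).symm (charDegree_cast ⟨θ, hθ⟩).symm
    refine ⟨_, ⟨⟨θ, hθ⟩, rfl⟩, h1, ?_⟩
    obtain ⟨k, hk⟩ := h1
    have hpos : 0 < Cfsg.charDegree θ := charDegree_pos (⟨θ, hθ⟩ : Cfsg.IrrCharacter N)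
    rw [hk, Nat.mul_div_cancel_left _ hpos] at h2
    rw [hk]
    exact mul_dvd_mul_left _ h2
  have hqG : ∀ d ∈ Cfsg.charDegrees G, d ≠ 1 → d ≠ f → q ∣ d := by
    intro d hd hd1 hdf
    obtain ⟨y, hy, h1, h2⟩ := hover d hd
    by_cases hy1 : y = 1
    · rw [hy1, one_mul] at h2
      exact absurd (hanti d hd f hfD hd1 h2) hdf
    · exact (hqN y hy hy1).trans h1
  have hcop : ∀ d ∈ Cfsg.charDegrees G, d ≠ 1 → d ≠ f → d.Coprime f := by
    intro d hd hd1 hdf
    refine ThreeDegrees.coprime_of_primes fun r hr h1 h2 => ?_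
    refine ne_two_of_hub ⟨r, hr, d, hd, h1⟩ (fun s => ?_) htwo
    obtain ⟨hs, c', hc', hsc⟩ := s.2
    by_cases hcf : c' = f
    · exact reachable_of_dvd hfD s _ (hcf ▸ hsc) h2
    · have hqc := hqG c' hc' (fun e => hs.not_dvd_one (e ▸ hsc)) hcf
      exact (reachable_of_dvd hc' s ⟨q, hq, c', hc', hqc⟩ hsc hqc).trans
        (reachable_of_dvd hd _ _ (hqG d hd hd1 hdf) h1)
  -- nonlinear characters of `N` extend
  have hext : ∀ ψ : N → ℂ, Cfsg.IsIrrCharacter N ψ → Cfsg.charDegree ψ ≠ 1 →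
      Cfsg.charDegree ψ ∈ Cfsg.charDegrees G ∧ Cfsg.charDegree ψ ≠ f ∧
        ∀ (g : G) (x : N), ψ (MulAut.conjNormal g x) = ψ x := by
    intro ψ hψ hψ1
    obtain ⟨χ, hχ⟩ := DerivedLength.exists_over_constituent N ⟨ψ, hψ⟩
    obtain ⟨h1, h2⟩ := Cfsg.Agent.S0887.result N (χ : G → ℂ) χ.2 ψ hψ hχ _ _
      (charDegree_cast χ).symm (charDegree_cast ⟨ψ, hψ⟩).symm
    obtain ⟨k, hk⟩ := h1
    have hpos : 0 < Cfsg.charDegree ψ := charDegree_pos (⟨ψ, hψ⟩ : Cfsg.IrrCharacter N)
    rw [hk, Nat.mul_div_cancel_left _ hpos] at h2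
    have hqd : q ∣ Cfsg.charDegree (χ : G → ℂ) :=
      hk ▸ dvd_mul_of_dvd_left (hqN _ ⟨⟨ψ, hψ⟩, rfl⟩ hψ1) k
    have hd1 : Cfsg.charDegree (χ : G → ℂ) ≠ 1 := fun e => hq.not_dvd_one (e ▸ hqd)
    have hdf : Cfsg.charDegree (χ : G → ℂ) ≠ f := fun e => hqf (e ▸ hqd)
    have hc := hcop _ ⟨χ, rfl⟩ hd1 hdf
    have hk1 : k = 1 := Nat.eq_one_of_dvd_coprimes hc (hk ▸ dvd_mul_left k _) h2
    rw [hk1, mul_one] at hk
    refine ⟨hk ▸ ⟨χ, rfl⟩, hk ▸ hdf, fun g x => ?_⟩
    have hres := BoundedDegree.restrict_eq_of_degree N χ.2 hψ hχ (charDegree_cast χ).symm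
      (charDegree_cast ⟨ψ, hψ⟩).symm hk.le
    rw [← congrFun hres x, ← congrFun hres (MulAut.conjNormal g x)]
    show (χ : G → ℂ) _ = _
    rw [MulAut.conjNormal_apply]
    exact irr_isClassFunction χ (x : G) g
  -- the kernel
  obtain ⟨p, hp, hpf⟩ := Nat.exists_prime_and_dvd (show f ≠ 1 by omega)
  haveI := Fact.mk hp
  have hpq : p ≠ q := fun e => hqf (e ▸ hpf)
  obtain ⟨g, hgN, j, hgj⟩ : ∃ g : G, g ∉ N ∧ ∃ j, g ^ p ^ j = 1 := by
    let P : Sylow p G := default
    by_contra! hall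
    refine P.not_dvd_index (hpf.trans (Subgroup.index_dvd_of_le fun x hx => ?_))
    by_contra hxN
    obtain ⟨j, hj⟩ := P.2 ⟨x, hx⟩
    exact hall x hxN j (congrArg Subtype.val hj)
  obtain ⟨M, hMn, hMcop, k, hMk⟩ := ThreeDegrees.normal_complement (G := N) hq hqN
  haveI := hMn
  have hMK : ∀ x ∈ M, πN x = 1 := fun x hx => by
    refine ExtendChar.eq_one_of_pow_coprime (m := Nat.card M) (n := Nat.card D) ?_ pow_card_eq_one'
      (hDcard ▸ hMcop.pow_right a)
    rw [← map_pow, show x ^ Nat.card M = 1 from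
      congrArg Subtype.val (pow_card_eq_one' (x := (⟨x, hx⟩ : M))), map_one]
  have hK : KHyp (MulAut.conjNormal g : N ≃* N) p q M := by
    refine ⟨fun χ hχ hd x => (hext χ hχ hd).2.2 g x, ?_, hqN, ?_, ⟨j, fun x => ?_⟩, hMcop,
      ⟨k, hMk⟩, v₀, fun hmem => ?_⟩
    · rintro _ ⟨ψ, rfl⟩ b hb ha1 hdvd
      have hb1 : b ≠ 1 := fun e => ha1 (Nat.dvd_one.1 (e ▸ hdvd))
      obtain ⟨ψ', rfl⟩ := hb
      exact hanti _ (hext _ ψ.2 ha1).1 _ (hext _ ψ'.2 hb1).1 ha1 hdvd
    · rintro _ ⟨ψ, rfl⟩ ha1 hdvd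
      obtain ⟨h1, h2, -⟩ := hext _ ψ.2 ha1
      exact hp.not_dvd_one ((hcop _ h1 ha1 h2).gcd_eq_one ▸ Nat.dvd_gcd hdvd hpf)
    · rw [iterate_conjNormal, hgj, map_one, MulAut.one_apply]
    · have h1 := hMK _ hmem
      rw [map_mul, map_inv, mul_inv_eq_one] at h1
      have h2 := congrArg Subtype.val h1
      refine hd₀ (Subtype.ext (hmoved (π g) hgN d₀ d₀.2 ?_))
      rw [← hv₀]
      show π g * π (v₀ : G) = π (v₀ : G) * π g
      change π ((MulAut.conjNormal g v₀ : N) : G) = π (v₀ : G) at h2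
      rw [MulAut.conjNormal_apply, map_mul, map_mul, map_inv] at h2
      exact mul_inv_eq_iff_eq_mul.1 h2
  have heq := hK.equal hpq
  -- the third degree
  obtain ⟨d, hd, hd1, hdf⟩ : ∃ d ∈ Cfsg.charDegrees G, d ≠ 1 ∧ d ≠ f := by
    by_contra! hall
    refine ne_two_of_hub ⟨p, hp, f, hfD, hpf⟩ (fun s => ?_) htwo
    obtain ⟨hs, c', hc', hsc⟩ := s.2
    exact reachable_of_dvd hfD s _
      (hall c' hc' (fun e => hs.not_dvd_one (e ▸ hsc)) ▸ hsc) hpf
  have hin : ∀ c ∈ Cfsg.charDegrees G, c ≠ 1 → c ≠ f → c ∈ Cfsg.charDegrees N := by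
    rintro _ ⟨χ, rfl⟩ hc1 hcf
    have h1 := ThreeDegrees.restrict_irr_of_coprime N χ (hcop _ ⟨χ, rfl⟩ hc1 hcf)
    exact ⟨⟨_, h1⟩, rfl⟩
  have hset : Cfsg.charDegrees G = {1, f, d} := by
    ext c
    simp only [Set.mem_insert_iff, Set.mem_singleton_iff]
    constructor
    · intro hc
      by_cases hc1 : c = 1
      · exact Or.inl hc1
      by_cases hcf : c = f
      · exact Or.inr (Or.inl hcf)
      exact Or.inr (Or.inr (heq c (hin c hc hc1 hcf) d (hin d hd hd1 hdf) hc1 hd1))
    · rintro (rfl | rfl | rfl)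
      exacts [ThreeDegrees.one_mem_degrees, hfD, hd]
  rw [Nat.card_coe_set_eq, hset, Set.ncard_eq_three]
  exact ⟨1, f, d, by omega, Ne.symm hd1, Ne.symm hdf, rfl⟩

end Cfsg.Agent.BlocksChars.NDAD
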