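import Cfsg.Agent.BlocksChars.NDAD.Camina

/-!
# The fixed-point-free case
-/

set_option autoImplicit false
set_option linter.style.haveILetI false
set_option linter.unusedSectionVars false

namespace Cfsg.Agent.BlocksChars.NDAD

open Cfsg.Agent.Characters Cfsg.Agent.CharTheory Cfsg.Agent.BlocksChars.Degrees
open scoped commutatorElement

universe u

variable {X : Type u} [Group X] [Finite X]

theorem AHyp.equal {σ : X ≃* X} {p : ℕ} [Fact p.Prime] {A : Subgroup X} [A.Normal] {u : X}
    (h : AHyp σ p A u) (hnil : Group.IsNilpotent A) :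
    ∀ a ∈ Cfsg.charDegrees X, ∀ b ∈ Cfsg.charDegrees X, a ≠ 1 → b ≠ 1 → a = b := by
  classical
  by_cases hab : ⁅A, A⁆ = ⊥
  · exact h.equal_of_abelian fun a ha b hb =>
      (Subgroup.mem_centralizer_iff.1
        (Subgroup.commutator_eq_bot_iff_le_centralizer.1 hab ha) b hb).symm
  exfalso
  obtain ⟨L, ⟨hLn, hLA, hLst, hLne⟩, hmax⟩ := (Set.toFinite
    {L : Subgroup X | L.Normal ∧ L ≤ A ∧ (∀ x, σ x ∈ L ↔ x ∈ L) ∧ ¬ ⁅A, A⁆ ≤ L}).exists_maximal
      ⟨⊥, inferInstance, bot_le, fun x => by simp, fun e => hab (le_bot_iff.1 e)⟩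
  haveI := hLn
  set π := QuotientGroup.mk' L with hπ
  have hsurj := QuotientGroup.mk'_surjective L
  set σ' : X ⧸ L ≃* X ⧸ L := QuotientGroup.congr L L σ (map_eq_of_stable σ hLst) with hσ'
  have hσπ : ∀ x, σ' (π x) = π (σ x) := fun x => rfl
  have hAmem : ∀ x, π x ∈ A.map π ↔ x ∈ A := by
    intro x
    refine ⟨?_, fun hx => Subgroup.mem_map_of_mem _ hx⟩
    rintro ⟨a, ha, e⟩
    have h1 : a⁻¹ * x ∈ L := QuotientGroup.eq.1 e
    simpa using A.mul_mem ha (hLA h1)
  haveI : (A.map π).Normal := Subgroup.Normal.map inferInstance _ hsurj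
  have h' : AHyp σ' p (A.map π) (π u) := by
    refine ⟨fun χ hχ hd x => ?_, fun a ha b hb => h.anti a (ThreeDegrees.mem_of_quotient L ha) b
      (ThreeDegrees.mem_of_quotient L hb), fun a ha => h.pdvd a (ThreeDegrees.mem_of_quotient L ha),
      ?_, ?_, fun x => ?_, ?_, ?_⟩
    · obtain ⟨t, rfl⟩ := hsurj x
      rw [hσπ]
      refine h.fixes _ (isIrrCharacter_comp_surjective π hsurj hχ) ?_ t
      intro e
      refine hd ?_
      rw [← e]
      simp [Cfsg.charDegree]
    · obtain ⟨j, hj⟩ := h.iter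
      refine ⟨j, fun x => ?_⟩
      obtain ⟨t, rfl⟩ := hsurj x
      have hit : ∀ n, σ'^[n] (π t) = π (σ^[n] t) := by
        intro n
        induction n with
        | zero => rfl
        | succ n ih => rw [Function.iterate_succ_apply', Function.iterate_succ_apply', ih, hσπ]
      rw [hit, hj]
    · rw [commutator_def, ← Subgroup.map_top_of_surjective π hsurj, ← Subgroup.map_commutator,
        ← commutator_def]
      exact Subgroup.map_mono h.comm
    · obtain ⟨t, rfl⟩ := hsurj x
      rw [hσπ, hAmem, hAmem, h.stable]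
    · rintro _ ⟨a, ha, rfl⟩ hc
      -- the difference map is bijective on `L`
      have hd : u * a * u⁻¹ * a⁻¹ ∈ L := by
        refine (QuotientGroup.eq_one_iff _).1 ?_
        show π (u * a * u⁻¹ * a⁻¹) = 1
        rw [map_mul, map_mul, map_mul, map_inv, map_inv, hc]
        group
      let d : L → L := fun l => MulAut.conjNormal u l * l⁻¹
      have hdinj : Function.Injective d := fun l l' e => by
        have e1 := congrArg Subtype.val e
        simp only [d, Subgroup.coe_mul, Subgroup.coe_inv, MulAut.conjNormal_apply] at e1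
        have e2 : u * ((l' : X)⁻¹ * l) * u⁻¹ = (l' : X)⁻¹ * l := by
          calc u * ((l' : X)⁻¹ * l) * u⁻¹ = (u * (l' : X) * u⁻¹)⁻¹ * ((u * (l : X) * u⁻¹ *
              (l : X)⁻¹) * l) := by group
            _ = (l' : X)⁻¹ * l := by rw [e1]; group
        exact (inv_mul_eq_one.1 (Subtype.ext (h.fpf _ (hLA (l'⁻¹ * l).2)
          (mul_inv_eq_iff_eq_mul.1 e2)))).symm
      obtain ⟨l, hl⟩ := Finite.injective_iff_surjective.1 hdinj ⟨_, hd⟩
      have e1 := congrArg Subtype.val hl
      simp only [d, Subgroup.coe_mul, Subgroup.coe_inv, MulAut.conjNormal_apply] at e1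
      have e2 : u * ((l : X)⁻¹ * a) * u⁻¹ = (l : X)⁻¹ * a := by
        calc u * ((l : X)⁻¹ * a) * u⁻¹ = (u * (l : X) * u⁻¹)⁻¹ * ((u * a * u⁻¹ * a⁻¹) * a) := by
              group
          _ = (l : X)⁻¹ * a := by rw [← e1]; group
      have e3 : a = l := (inv_mul_eq_one.1 (h.fpf _ (A.mul_mem (A.inv_mem (hLA l.2)) ha)
        (mul_inv_eq_iff_eq_mul.1 e2))).symm
      exact (QuotientGroup.eq_one_iff a).2 (e3 ▸ l.2)
    · obtain ⟨y, hy⟩ := h.diff
      refine ⟨π y, ?_⟩
      rw [hσπ, ← map_inv, ← map_inv, ← map_mul, ← map_mul, hAmem]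
      exact hy
  haveI := hnil
  refine camina_false h' (Group.nilpotent_of_surjective (π.subgroupMap A)
    (π.subgroupMap_surjective A)) ?_ fun M hM hMA hMst hMne => ?_
  · rw [← Subgroup.map_commutator, Subgroup.map_eq_bot_iff, QuotientGroup.ker_mk']
    exact hLne
  · rw [← Subgroup.map_commutator, Subgroup.map_le_iff_le_comap]
    by_contra hno
    have hLM : L ≤ M.comap π := fun x hx => by
      show π x ∈ M
      rw [show π x = 1 from (QuotientGroup.eq_one_iff x).2 hx]
      exact M.one_mem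
    have h1 := hmax ⟨hM.comap π, fun x hx => (hAmem x).1 (hMA hx), fun x => by
      rw [Subgroup.mem_comap, Subgroup.mem_comap, ← hσπ, hMst], hno⟩ hLM
    refine hMne ?_
    rw [← Subgroup.map_comap_eq_self_of_surjective hsurj M, Subgroup.map_eq_bot_iff,
      QuotientGroup.ker_mk']
    exact h1

end Cfsg.Agent.BlocksChars.NDAD
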