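import Cfsg.Agent.BlocksChars.NDAD.Lin

/-!
# The abelian complement over a subgroup with a fixed-point-free element
-/

set_option autoImplicit false
set_option linter.style.haveILetI false
set_option linter.unusedSectionVars false

namespace Cfsg.Agent.BlocksChars.NDAD

open Cfsg.Agent.Characters Cfsg.Agent.CharTheory Cfsg.Agent.BlocksChars.Degrees
open scoped commutatorElement

universe u

variable {X : Type u} [Group X] [Finite X]

/-- An automorphism fixing nonlinear characters, a normal subgroup with abelian quotient and an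
element fixed-point-free on it. -/
structure AHyp (σ : X ≃* X) (p : ℕ) (A : Subgroup X) [A.Normal] (u : X) : Prop where
  fixes : Fixes σ
  anti : Anti X
  pdvd : ∀ a ∈ Cfsg.charDegrees X, a ≠ 1 → ¬ p ∣ a
  iter : ∃ j, ∀ x, σ^[p ^ j] x = x
  comm : commutator X ≤ A
  stable : ∀ x, σ x ∈ A ↔ x ∈ A
  fpf : ∀ a ∈ A, u * a = a * u → a = 1
  diff : ∃ y, σ y * y⁻¹ * u⁻¹ ∈ A

namespace AHyp

variable {σ : X ≃* X} {p : ℕ} {A : Subgroup X} [A.Normal] {u : X} (h : AHyp σ p A u)
include h

theorem commutator_mem (x y : X) : x * y * x⁻¹ * y⁻¹ ∈ A :=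
  h.comm (Subgroup.commutator_mem_commutator (Subgroup.mem_top x) (Subgroup.mem_top y))

theorem diff_surjective : Function.Surjective fun a : A => MulAut.conjNormal u a * a⁻¹ := by
  refine Finite.injective_iff_surjective.1 fun a b hab => ?_
  have h1 : MulAut.conjNormal u (b⁻¹ * a) = b⁻¹ * a := by
    rw [map_mul, map_inv, inv_mul_eq_iff_eq_mul, ← mul_assoc]
    exact mul_inv_eq_iff_eq_mul.1 hab
  have h2 := congrArg Subtype.val h1
  rw [MulAut.conjNormal_apply] at h2
  exact (inv_mul_eq_one.1 (Subtype.ext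
    (h.fpf _ (b⁻¹ * a).2 (mul_inv_eq_iff_eq_mul.1 h2)))).symm

/-- Every element is uniquely an element of `A` times one commuting with `u`. -/
theorem exists_split (x : X) : ∃ a : A, Commute ((a : X)⁻¹ * x) u := by
  obtain ⟨a, ha⟩ := h.diff_surjective ⟨u * x * u⁻¹ * x⁻¹, h.commutator_mem u x⟩
  refine ⟨a, ?_⟩
  have h1 := congrArg Subtype.val ha
  simp only [Subgroup.coe_mul, Subgroup.coe_inv, MulAut.conjNormal_apply] at h1
  show (a : X)⁻¹ * x * u = u * ((a : X)⁻¹ * x)
  calc (a : X)⁻¹ * x * u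
      = (a : X)⁻¹ * (u * x * u⁻¹ * x⁻¹)⁻¹ * (u * x) := by group
    _ = u * ((a : X)⁻¹ * x) := by rw [← h1]; group

theorem split_unique {a b : A} {x : X} (ha : Commute ((a : X)⁻¹ * x) u)
    (hb : Commute ((b : X)⁻¹ * x) u) : a = b := by
  have h1 : Commute (((b : X)⁻¹ * x) * ((a : X)⁻¹ * x)⁻¹) u := hb.mul_left ha.inv_left
  rw [show ((b : X)⁻¹ * x) * ((a : X)⁻¹ * x)⁻¹ = ((b⁻¹ * a : A) : X) by push_cast; group] at h1
  exact (inv_mul_eq_one.1 (Subtype.ext (h.fpf _ (b⁻¹ * a).2 h1.symm.eq))).symm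

/-- An invariant linear character extends to its stabiliser. -/
theorem exists_ext (l : A →* ℂˣ) :
    ∃ e : st A l →* ℂˣ, ∀ a : A, e ⟨a, le_st A l a.2⟩ = l a := by
  classical
  choose r hr using fun t : st A l => h.exists_split t.1
  have hone : ∀ a : A, r ⟨a, le_st A l a.2⟩ = a := fun a =>
    h.split_unique (hr _) (by
      show Commute ((a : X)⁻¹ * (a : X)) u
      rw [inv_mul_cancel]
      exact Commute.one_left u)
  refine ⟨⟨⟨fun t => l (r t), ?_⟩, fun s t => ?_⟩, fun a => congrArg l (hone a)⟩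
  · show l (r 1) = 1
    rw [show (1 : st A l) = ⟨((1 : A) : X), le_st A l (1 : A).2⟩ from rfl, hone, map_one]
  · show l (r (s * t)) = l (r s) * l (r t)
    set b : X := ((r s : A) : X)⁻¹ * (s : X) with hb
    have e : r (s * t) = r s * MulAut.conjNormal b (r t) := by
      refine h.split_unique (hr _) ?_
      have h2 : ((r s * MulAut.conjNormal b (r t) : A) : X)⁻¹ * ((s * t : st A l) : X) =
          b * (((r t : A) : X)⁻¹ * (t : X)) := by
        rw [Subgroup.coe_mul, Subgroup.coe_mul, MulAut.conjNormal_apply, hb]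
        group
      rw [h2]
      exact (hr s).mul_left (hr t)
    have hbT : b ∈ st A l := mul_mem (inv_mem (le_st A l (r s).2)) s.2
    rw [e, map_mul, (mem_st_iff A).1 hbT]

theorem index_mem (l : A →* ℂˣ) : (st A l).index ∈ Cfsg.charDegrees X := by
  obtain ⟨e, he⟩ := h.exists_ext l
  exact NDAD.index_mem A l e he

/-- `u` moves every nontrivial linear character. -/
theorem eq_one_of_fixed {l : A →* ℂˣ} (hl : u ∈ st A l) : l = 1 := by
  refine MonoidHom.ext fun a => ?_
  obtain ⟨b, rfl⟩ := h.diff_surjective a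
  rw [MonoidHom.one_apply, map_mul, map_inv, (mem_st_iff A).1 hl, mul_inv_cancel]

theorem index_ne_one {l : A →* ℂˣ} (hl : l ≠ 1) : (st A l).index ≠ 1 := fun e =>
  hl (h.eq_one_of_fixed (Subgroup.index_eq_one.1 e ▸ Subgroup.mem_top u))

theorem st_ne_top {l : A →* ℂˣ} (hl : l ≠ 1) : st A l ≠ ⊤ := fun e =>
  h.index_ne_one hl (Subgroup.index_eq_one.2 e)

/-- Comparable stabilisers agree. -/
theorem st_eq_of_le {l m : A →* ℂˣ} (hm : m ≠ 1) (hle : st A l ≤ st A m) :
    st A l = st A m := by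
  have h1 : (st A m).index = (st A l).index :=
    h.anti _ (h.index_mem m) _ (h.index_mem l) (h.index_ne_one hm) (Subgroup.index_dvd_of_le hle)
  refine Subgroup.eq_of_le_of_card_ge hle (le_of_eq ?_)
  have h2 := (st A l).index_mul_card.trans (st A m).index_mul_card.symm
  rw [h1] at h2
  exact (Nat.eq_of_mul_eq_mul_left (Nat.pos_of_ne_zero Subgroup.index_ne_zero_of_finite) h2).symm

/-- All nontrivial linear characters share their stabiliser. -/
theorem st_eq {l m : A →* ℂˣ} (hl : l ≠ 1) (hm : m ≠ 1) : st A l = st A m := by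
  by_cases hw : ∃ w : A →* ℂˣ, w ≠ 1 ∧ st A l ≤ st A w ∧ st A m ≤ st A w
  · obtain ⟨w, hw1, h1, h2⟩ := hw
    exact (h.st_eq_of_le hw1 h1).trans (h.st_eq_of_le hw1 h2).symm
  have hlm : l * m ≠ 1 := fun e => hw ⟨m, hm, fun g hg => by
    rw [mem_st_iff]
    intro a
    have h1 : ∀ c, l c * m c = 1 := fun c => DFunLike.congr_fun e c
    rw [eq_inv_of_mul_eq_one_right (h1 _), eq_inv_of_mul_eq_one_right (h1 a),
      (mem_st_iff A).1 hg], le_rfl⟩
  have hle : st A (l * m) ≤ st A l ⊓ st A m := by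
    intro b hb
    have e : tw A b l * tw A b m = l * m := by rw [← tw_hom_mul]; exact hb
    set w := tw A b l * l⁻¹ with hwdef
    have hw2 : w = m * (tw A b m)⁻¹ := MonoidHom.ext fun c => by
      have h1 : tw A b l c * tw A b m c = l c * m c := DFunLike.congr_fun e c
      rw [hwdef, MonoidHom.mul_apply, MonoidHom.mul_apply, MonoidHom.inv_apply,
        MonoidHom.inv_apply, mul_inv_eq_iff_eq_mul, mul_right_comm, eq_mul_inv_iff_mul_eq, h1,
        mul_comm]
    have hw1 : w = 1 := by
      by_contra hne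
      refine hw ⟨w, hne, fun g hg => ?_, fun g hg => ?_⟩
      · have h1 : g ∈ st A (tw A b l) := (st_tw A h.comm b l).symm ▸ hg
        rw [mem_st_iff] at hg h1 ⊢
        intro a
        rw [hwdef, MonoidHom.mul_apply, MonoidHom.mul_apply, MonoidHom.inv_apply,
          MonoidHom.inv_apply, hg, h1]
      · have h1 : g ∈ st A (tw A b m) := (st_tw A h.comm b m).symm ▸ hg
        rw [mem_st_iff] at hg h1 ⊢
        intro a
        rw [hw2, MonoidHom.mul_apply, MonoidHom.mul_apply, MonoidHom.inv_apply,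
          MonoidHom.inv_apply, hg, h1]
    refine ⟨MonoidHom.ext fun c => ?_, MonoidHom.ext fun c => ?_⟩
    · have h1 := DFunLike.congr_fun hw1 c
      rw [hwdef, MonoidHom.mul_apply, MonoidHom.inv_apply, MonoidHom.one_apply,
        mul_inv_eq_one] at h1
      exact h1
    · have h1 := DFunLike.congr_fun hw1 c
      rw [hw2, MonoidHom.mul_apply, MonoidHom.inv_apply, MonoidHom.one_apply,
        mul_inv_eq_one] at h1
      exact h1.symm
  exact ((h.st_eq_of_le hl (hle.trans inf_le_left)).symm.trans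
    (h.st_eq_of_le hm (hle.trans inf_le_right)))

/-- With `A` abelian, every nonlinear degree is the index of the common stabiliser. -/
theorem equal_of_abelian (hAab : ∀ a ∈ A, ∀ b ∈ A, a * b = b * a) :
    ∀ a ∈ Cfsg.charDegrees X, ∀ b ∈ Cfsg.charDegrees X, a ≠ 1 → b ≠ 1 → a = b := by
  classical
  by_cases hl : ∀ l : A →* ℂˣ, l = 1
  · have hA1 : A = ⊥ := by
      rw [Subgroup.eq_bot_iff_forall]
      intro a ha
      have h1 := ThreeDegrees.mem_commutator_of_linear (⟨a, ha⟩ : A) fun l => by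
        rw [hl l, MonoidHom.one_apply]
      have h2 : commutator A = ⊥ := by
        rw [commutator_def, Subgroup.commutator_eq_bot_iff_le_centralizer]
        exact fun x _ => Subgroup.mem_centralizer_iff.2 fun y _ =>
          Subtype.ext (hAab _ y.2 _ x.2)
      rw [h2, Subgroup.mem_bot] at h1
      exact congrArg Subtype.val h1
    have hlin : ∀ a ∈ Cfsg.charDegrees X, a = 1 := by
      rintro _ ⟨χ, rfl⟩
      refine Nat.cast_injective (R := ℂ) ?_
      rw [charDegree_cast, Nat.cast_one]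
      refine irr_degree_one_of_comm (fun x y => ?_) χ.2
      have h1 := h.commutator_mem x y
      rw [hA1, Subgroup.mem_bot, mul_inv_eq_one, mul_inv_eq_iff_eq_mul] at h1
      exact h1
    exact fun a ha b hb ha1 _ => absurd (hlin a ha) ha1
  push Not at hl
  obtain ⟨l₀, hl₀⟩ := hl
  set K := st A l₀ with hK
  haveI : K.Normal := Subgroup.Normal.of_commutator_le X (h.comm.trans (le_st A l₀))
  have hcen : ∀ g ∈ K, ∀ a ∈ A, g * a = a * g := by
    intro g hg a ha
    have h1 : MulAut.conjNormal g (⟨a, ha⟩ : A) * (⟨a, ha⟩ : A)⁻¹ ∈ commutator A := by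
      refine ThreeDegrees.mem_commutator_of_linear _ fun l => ?_
      rcases eq_or_ne l 1 with rfl | hne
      · rfl
      · rw [map_mul, map_inv, (mem_st_iff A).1 ((h.st_eq hl₀ hne) ▸ hg), mul_inv_cancel]
    have h2 : commutator A = ⊥ := by
      rw [commutator_def, Subgroup.commutator_eq_bot_iff_le_centralizer]
      exact fun x _ => Subgroup.mem_centralizer_iff.2 fun y _ =>
        Subtype.ext (hAab _ y.2 _ x.2)
    rw [h2, Subgroup.mem_bot, mul_inv_eq_one] at h1
    have h3 := congrArg Subtype.val h1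
    rw [MulAut.conjNormal_apply] at h3
    exact mul_inv_eq_iff_eq_mul.1 h3
  have hKab : ∀ x ∈ K, ∀ y ∈ K, x * y = y * x := by
    intro x hx y hy
    obtain ⟨a, ha⟩ := h.exists_split x
    obtain ⟨b, hb⟩ := h.exists_split y
    set x' : X := (a : X)⁻¹ * x with hx'
    set y' : X := (b : X)⁻¹ * y with hy'
    have hx'K : x' ∈ K := mul_mem (inv_mem (le_st A l₀ a.2)) hx
    have hy'K : y' ∈ K := mul_mem (inv_mem (le_st A l₀ b.2)) hy
    have hc : x' * y' * x'⁻¹ * y'⁻¹ = 1 := h.fpf _ (h.commutator_mem x' y')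
      ((ha.mul_left hb).mul_left ha.inv_left |>.mul_left hb.inv_left).symm.eq
    have c1 : Commute x' (b : X) := hcen x' hx'K _ b.2
    have c2 : Commute (a : X) y' := (hcen y' hy'K _ a.2).symm
    have c3 : Commute x' y' := mul_inv_eq_iff_eq_mul.1 (mul_inv_eq_one.1 hc)
    have c4 : Commute (a : X) (b : X) := hAab _ a.2 _ b.2
    have hxy : Commute ((a : X) * x') ((b : X) * y') :=
      (c4.mul_right c2).mul_left (c1.mul_right c3)
    rwa [hx', hy', mul_inv_cancel_left, mul_inv_cancel_left] at hxy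
  have hd : ∀ a ∈ Cfsg.charDegrees X, a ≠ 1 → a = K.index := by
    intro a ha ha1
    obtain ⟨χ, rfl⟩ := ha
    haveI := Fintype.ofFinite X
    obtain ⟨d, hd, hdvd⟩ := Ito.degree_dvd_index_abelian K hKab χ.2
    have e : Cfsg.charDegree (χ : X → ℂ) = d :=
      Nat.cast_injective (R := ℂ) ((charDegree_cast χ).trans hd)
    exact h.anti _ ⟨χ, rfl⟩ _ (h.index_mem l₀) ha1 (e ▸ hdvd)
  exact fun a ha b hb ha1 hb1 => (hd a ha ha1).trans (hd b hb hb1).symm

end AHyp

end Cfsg.Agent.BlocksChars.NDAD
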